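import Mathlib

/-!
The group `(ℤ/N × ℤ/N) ⋊ (2 × 2)`, the outer four group acting by the swap and by inversion: the
abstract shape of a Sylow 2-subgroup of `G₂(q)`, `q` odd.
-/

set_option autoImplicit false

namespace CfsgLib.GTwoFusion

/-- Elements `(a, b) σ^s ι^t`. -/
@[ext] structure Mdl (N : ℕ) where
  /-- first coordinate -/
  a : ZMod N
  /-- second coordinate -/
  b : ZMod N
  /-- exponent of the swap -/
  s : Bool
  /-- exponent of the inversion -/
  t : Bool

namespace Mdl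

variable {N : ℕ}

/-- The action of `σ^s ι^t` on a pair. -/
def act (s t : Bool) (v : ZMod N × ZMod N) : ZMod N × ZMod N :=
  let w := if s then (v.2, v.1) else v
  if t then (-w.1, -w.2) else w

instance : Mul (Mdl N) :=
  ⟨fun x y => ⟨x.a + (act x.s x.t (y.a, y.b)).1, x.b + (act x.s x.t (y.a, y.b)).2,
    xor x.s y.s, xor x.t y.t⟩⟩

instance : One (Mdl N) := ⟨⟨0, 0, false, false⟩⟩

instance : Inv (Mdl N) :=
  ⟨fun x => ⟨-(act x.s x.t (x.a, x.b)).1, -(act x.s x.t (x.a, x.b)).2, x.s, x.t⟩⟩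

theorem mul_def (x y : Mdl N) : x * y = ⟨x.a + (act x.s x.t (y.a, y.b)).1,
    x.b + (act x.s x.t (y.a, y.b)).2, xor x.s y.s, xor x.t y.t⟩ := rfl

theorem one_def : (1 : Mdl N) = ⟨0, 0, false, false⟩ := rfl

theorem inv_def (x : Mdl N) : x⁻¹ = ⟨-(act x.s x.t (x.a, x.b)).1, -(act x.s x.t (x.a, x.b)).2, x.s, x.t⟩ := rfl

instance : Group (Mdl N) where
  mul_assoc x y z := by
    obtain ⟨a, b, s, t⟩ := x
    obtain ⟨c, d, s', t'⟩ := y
    obtain ⟨e, f, s'', t''⟩ := z
    cases s <;> cases t <;> cases s' <;> cases t' <;> simp [mul_def, act] <;>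
      refine ⟨?_, ?_⟩ <;> abel
  one_mul x := by simp [mul_def, one_def, act]
  mul_one x := by
    obtain ⟨a, b, s, t⟩ := x
    cases s <;> cases t <;> simp [mul_def, one_def, act]
  inv_mul_cancel x := by
    obtain ⟨a, b, s, t⟩ := x
    cases s <;> cases t <;> simp [mul_def, one_def, inv_def, act]

/-- Coordinates of the model as a product. -/
def equivProd : Mdl N ≃ (ZMod N × ZMod N) × (Bool × Bool) where
  toFun x := ((x.a, x.b), (x.s, x.t))
  invFun p := ⟨p.1.1, p.1.2, p.2.1, p.2.2⟩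
  left_inv x := rfl
  right_inv p := rfl

instance [NeZero N] : Finite (Mdl N) := Finite.of_equiv _ equivProd.symm

theorem card_eq : Nat.card (Mdl N) = 4 * N ^ 2 := by
  rw [Nat.card_congr equivProd, Nat.card_prod, Nat.card_prod, Nat.card_prod, Nat.card_zmod]
  simp
  ring

/-- The pairs. -/
def el (a b : ZMod N) : Mdl N := ⟨a, b, false, false⟩

/-- The swap. -/
def sg : Mdl N := ⟨0, 0, true, false⟩

/-- The inversion. -/
def io : Mdl N := ⟨0, 0, false, true⟩

end Mdl

/-- A homomorphism from the model is given by four elements satisfying the relations. -/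
theorem exists_hom {G : Type*} [Group G] {N : ℕ} [NeZero N] (f f' σ ι : G) (hN : f ^ N = 1)
    (hff : f * f' = f' * f) (hσ : σ * σ = 1) (hι : ι * ι = 1) (hc : σ * ι = ι * σ)
    (hσf : σ * f * σ = f') (hιf : ι * f * ι = f⁻¹) :
    ∃ φ : Mdl N →* G, φ (Mdl.el 1 0) = f ∧ φ (Mdl.el 0 1) = f' ∧ φ Mdl.sg = σ ∧ φ Mdl.io = ι := by
  have hσi : σ⁻¹ = σ := inv_eq_of_mul_eq_one_right hσ
  have hιi : ι⁻¹ = ι := inv_eq_of_mul_eq_one_right hι
  have hσf' : σ * f' * σ = f := by
    rw [← hσf]; simp only [mul_assoc, hσ, mul_one]; rw [← mul_assoc, hσ, one_mul]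
  have hιf' : ι * f' * ι = f'⁻¹ := by
    calc ι * f' * ι = ι * (σ * f * σ) * ι := by rw [hσf]
      _ = (ι * σ) * f * (σ * ι) := by group
      _ = (σ * ι) * f * (ι * σ) := by rw [hc]
      _ = σ * (ι * f * ι) * σ := by group
      _ = σ * f⁻¹ * σ := by rw [hιf]
      _ = (σ⁻¹ * f * σ⁻¹)⁻¹ := by group
      _ = f'⁻¹ := by rw [hσi, hσf]
  have hN' : f' ^ N = 1 := by
    rw [← hσf]
    conv_lhs => rw [show σ * f * σ = σ * f * σ⁻¹ by rw [hσi]]
    rw [conj_pow, hN, mul_one, mul_inv_cancel]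
  set e : ZMod N → G := fun a => f ^ a.val with he
  set e' : ZMod N → G := fun a => f' ^ a.val with he'
  have hadd : ∀ {g : G}, g ^ N = 1 → ∀ a b : ZMod N, g ^ (a + b).val = g ^ a.val * g ^ b.val := fun {g} hg a b => by
    rw [← pow_add, ← pow_mod_orderOf g (a.val + b.val), ← pow_mod_orderOf g (a + b).val]
    congr 1
    rw [ZMod.val_add]
    exact Nat.mod_mod_of_dvd _ (orderOf_dvd_of_pow_eq_one hg)
  have hneg : ∀ {g : G}, g ^ N = 1 → ∀ a : ZMod N, g ^ (-a).val = (g ^ a.val)⁻¹ := fun {g} hg a => by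
    refine eq_inv_of_mul_eq_one_left ?_
    rw [← hadd hg, neg_add_cancel, ZMod.val_zero, pow_zero]
  set V : ZMod N × ZMod N → G := fun v => e v.1 * e' v.2 with hV
  have hcomm : ∀ a b : ZMod N, Commute (e a) (e' b) := fun a b => (show Commute f f' from hff).pow_pow _ _
  have hVadd : ∀ v w, V (v + w) = V v * V w := fun v w => by
    simp only [hV, Prod.fst_add, Prod.snd_add, he, he', hadd hN, hadd hN']
    exact ((show Commute f f' from hff).pow_pow _ _).mul_mul_mul_comm _ _
  set E : Bool → Bool → G := fun s t => (if s then σ else 1) * (if t then ι else 1) with hE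
  have hEmul : ∀ s t s' t', E s t * E s' t' = E (xor s s') (xor t t') := fun s t s' t' => by
    have k1 : ∀ (c : G) (_ : c * c = 1) (x y : Bool),
        (if x then c else 1) * (if y then c else 1) = if xor x y then c else 1 := fun c h x y => by
      cases x <;> cases y <;> simp [h]
    have k2 : Commute (if t then ι else 1) (if s' then σ else 1) := by
      cases t <;> cases s'
      all_goals first
        | exact Commute.one_left _
        | exact Commute.one_right _
        | exact hc.symm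
    show _ * _ * (_ * _) = _ * _
    rw [k2.mul_mul_mul_comm, k1 σ hσ, k1 ι hι]
  have hconjσ : ∀ v, σ * V v * σ = V (v.2, v.1) := fun v => by
    have h1 : ∀ n : ℕ, σ * f ^ n * σ = f' ^ n := fun n => by
      rw [← hσf]; conv_rhs => rw [show σ * f * σ = σ * f * σ⁻¹ by rw [hσi], conj_pow, hσi]
    have h2 : ∀ n : ℕ, σ * f' ^ n * σ = f ^ n := fun n => by
      rw [← hσf']; conv_rhs => rw [show σ * f' * σ = σ * f' * σ⁻¹ by rw [hσi], conj_pow, hσi]
    calc σ * (e v.1 * e' v.2) * σ = (σ * e v.1 * σ) * (σ * e' v.2 * σ) := by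
          simp only [mul_assoc]; rw [← mul_assoc σ σ, hσ, one_mul]
      _ = e' v.1 * e v.2 := by simp only [he, he', h1, h2]
      _ = e v.2 * e' v.1 := (hcomm _ _).eq.symm
  have hconjι : ∀ v, ι * V v * ι = V (-v.1, -v.2) := fun v => by
    have h1 : ∀ n : ℕ, ι * f ^ n * ι = (f ^ n)⁻¹ := fun n => by
      rw [← inv_pow, ← hιf]; conv_rhs => rw [show ι * f * ι = ι * f * ι⁻¹ by rw [hιi], conj_pow, hιi]
    have h2 : ∀ n : ℕ, ι * f' ^ n * ι = (f' ^ n)⁻¹ := fun n => by
      rw [← inv_pow, ← hιf']; conv_rhs => rw [show ι * f' * ι = ι * f' * ι⁻¹ by rw [hιi], conj_pow, hιi]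
    calc ι * (e v.1 * e' v.2) * ι = (ι * e v.1 * ι) * (ι * e' v.2 * ι) := by
          simp only [mul_assoc]; rw [← mul_assoc ι ι, hι, one_mul]
      _ = V (-v.1, -v.2) := by simp only [hV, he, he', h1, h2, hneg hN, hneg hN']
  have hconj : ∀ s t v, E s t * V v = V (Mdl.act s t v) * E s t := fun s t v => by
    have hι' : ∀ v, ι * V v = V (-v.1, -v.2) * ι := fun v => by
      rw [← hconjι, mul_assoc _ ι ι, hι, mul_one]
    have hσ' : ∀ v, σ * V v = V (v.2, v.1) * σ := fun v => by
      rw [← hconjσ, mul_assoc _ σ σ, hσ, mul_one]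
    cases s <;> cases t <;> simp only [hE, Mdl.act, Bool.false_eq_true, if_false, if_true, one_mul, mul_one]
    · exact hι' v
    · exact hσ' v
    · rw [mul_assoc, hι', ← mul_assoc, hσ', mul_assoc]
  let φ : Mdl N →* G :=
    { toFun := fun x => V (x.a, x.b) * E x.s x.t
      map_one' := by simp [Mdl.one_def, hV, hE, he, he']
      map_mul' := fun x y => by
        show V ((x * y).a, (x * y).b) * E (x * y).s (x * y).t = _
        rw [Mdl.mul_def]
        simp only
        rw [show ((x.a + (Mdl.act x.s x.t (y.a, y.b)).1, x.b + (Mdl.act x.s x.t (y.a, y.b)).2) :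
            ZMod N × ZMod N) = (x.a, x.b) + Mdl.act x.s x.t (y.a, y.b) from rfl, hVadd, ← hEmul]
        calc V (x.a, x.b) * V (Mdl.act x.s x.t (y.a, y.b)) * (E x.s x.t * E y.s y.t)
            = V (x.a, x.b) * (V (Mdl.act x.s x.t (y.a, y.b)) * E x.s x.t) * E y.s y.t := by group
          _ = V (x.a, x.b) * (E x.s x.t * V (y.a, y.b)) * E y.s y.t := by rw [hconj]
          _ = _ := by group }
  have hval : ∀ {g : G}, g ^ N = 1 → g ^ (1 : ZMod N).val = g := fun {g} hg => by
    rcases Nat.lt_or_ge 1 N with h | h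
    · haveI : Fact (1 < N) := ⟨h⟩
      rw [ZMod.val_one, pow_one]
    · have h1 : N = 1 := le_antisymm h (Nat.pos_of_ne_zero (NeZero.ne N))
      subst h1
      rw [pow_one] at hg
      simp [hg]
  refine ⟨φ, ?_, ?_, ?_, ?_⟩
  · show V (1, 0) * E false false = f
    simp [hV, hE, he, he', hval hN]
  · show V (0, 1) * E false false = f'
    simp [hV, hE, he, he', hval hN']
  · show V (0, 0) * E true false = σ
    simp [hV, hE, he, he']
  · show V (0, 0) * E false true = ι
    simp [hV, hE, he, he']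

end CfsgLib.GTwoFusion
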