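import Mathlib
import Cfsg.Agent.Lib.GTwoFusion.Model

/-!
Involutions, centralisers and characters of the model 2-group.
-/

set_option autoImplicit false

namespace CfsgLib.GTwoFusion

variable {k : ℕ}

/-- `N / 2`. -/
def half (k : ℕ) : ZMod (2 ^ k) := ((2 ^ (k - 1) : ℕ) : ZMod (2 ^ k))

/-- `N / 4`. -/
def quarter (k : ℕ) : ZMod (2 ^ k) := ((2 ^ (k - 2) : ℕ) : ZMod (2 ^ k))

/-- The central involution. -/
def zc (k : ℕ) : Mdl (2 ^ k) := Mdl.el (half k) (half k)

/-- A non-central involution of the homocyclic subgroup. -/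
def uc (k : ℕ) : Mdl (2 ^ k) := Mdl.el (half k) 0

/-- Its conjugate. -/
def uc' (k : ℕ) : Mdl (2 ^ k) := Mdl.el 0 (half k)

/-- `σ ι`. -/
def tau (k : ℕ) : Mdl (2 ^ k) := ⟨0, 0, true, true⟩

/-- The classes in the coset of `ι`. -/
def iot (k : ℕ) (a b : ℕ) : Mdl (2 ^ k) := ⟨(a : ZMod (2 ^ k)), (b : ZMod (2 ^ k)), false, true⟩

theorem half_add (hk : 2 ≤ k) : half k + half k = 0 := by
  rw [half, ← Nat.cast_add, show 2 ^ (k - 1) + 2 ^ (k - 1) = 2 ^ k by
    conv_rhs => rw [show k = k - 1 + 1 by omega, pow_succ]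
    ring]
  exact ZMod.natCast_self _

theorem neg_half (hk : 2 ≤ k) : -half k = half k := neg_eq_of_add_eq_zero_left (half_add hk)

theorem half_ne (hk : 2 ≤ k) : half k ≠ 0 := by
  rw [half, Ne, ZMod.natCast_eq_zero_iff]
  exact Nat.not_dvd_of_pos_of_lt (by positivity) (Nat.pow_lt_pow_right (by norm_num) (by omega))

theorem quarter_add (hk : 2 ≤ k) : quarter k + quarter k = half k := by
  rw [quarter, half, ← Nat.cast_add, show 2 ^ (k - 2) + 2 ^ (k - 2) = 2 ^ (k - 1) by
    conv_rhs => rw [show k - 1 = k - 2 + 1 by omega, pow_succ]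
    ring]

theorem two_torsion (hk : 2 ≤ k) {x : ZMod (2 ^ k)} (h : x + x = 0) : x = 0 ∨ x = half k := by
  have : NeZero (2 ^ k) := ⟨by positivity⟩
  rw [← ZMod.natCast_zmod_val x, ← Nat.cast_add, ZMod.natCast_eq_zero_iff] at h
  obtain ⟨c, hc⟩ := h
  have hlt := ZMod.val_lt x
  have hc2 : c < 2 := by
    by_contra hh
    have : 2 ^ k * 2 ≤ 2 ^ k * c := Nat.mul_le_mul_left _ (not_lt.mp hh)
    omega
  interval_cases c
  · exact Or.inl ((ZMod.val_eq_zero x).mp (by omega))
  · refine Or.inr ?_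
    have e : 2 ^ k = 2 * 2 ^ (k - 1) := by
      conv_lhs => rw [show k = k - 1 + 1 by omega, pow_succ']
    rw [half, ← ZMod.natCast_zmod_val x]
    congr 1
    omega

/-- Parity. -/
def par (hk : 2 ≤ k) : ZMod (2 ^ k) →+* ZMod 2 := ZMod.castHom (dvd_pow_self 2 (by omega)) (ZMod 2)

theorem par_half (hk : 2 ≤ k) : par hk (half k) = 0 := by
  rw [half, map_natCast, ZMod.natCast_eq_zero_iff]
  exact dvd_pow_self 2 (by omega)

theorem par_of_double (hk : 3 ≤ k) {x : ZMod (2 ^ k)} (h : x + x = half k) : par (by omega) x = 0 := by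
  have e : quarter k + quarter k = half k := quarter_add (by omega)
  have hx : (x - quarter k) + (x - quarter k) = 0 := by
    rw [show (x - quarter k) + (x - quarter k) = (x + x) - (quarter k + quarter k) by ring, h, e, sub_self]
  have hq : par (by omega : 2 ≤ k) (quarter k) = 0 := by
    rw [quarter, map_natCast, ZMod.natCast_eq_zero_iff]
    exact dvd_pow_self 2 (by omega)
  rcases two_torsion (by omega) hx with hh | hh
  · rw [sub_eq_zero.mp hh, hq]
  · rw [sub_eq_iff_eq_add.mp hh, map_add, hq, par_half, add_zero]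

/-- The characters of exponent two. -/
def chi (hk : 2 ≤ k) (x y w : ZMod 2) : Mdl (2 ^ k) →* Multiplicative (ZMod 2) where
  toFun m := Multiplicative.ofAdd (x * par hk (m.a + m.b) + y * (if m.s then 1 else 0) + w * (if m.t then 1 else 0))
  map_one' := by simp [Mdl.one_def]
  map_mul' m n := by
    obtain ⟨a, b, s, t⟩ := m
    obtain ⟨c, d, s', t'⟩ := n
    rw [← ofAdd_add]
    congr 1
    have h2 : ∀ v : ZMod 2, -v = v := by decide
    cases s <;> cases t <;> cases s' <;> cases t' <;>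
      simp [Mdl.mul_def, Mdl.act, map_add, map_neg, h2] <;>
      linear_combination (norm := (ring_nf; try simp [show (2 : ZMod 2) = 0 from rfl])) (0 : ZMod 2)

theorem chi_apply (hk : 2 ≤ k) (x y w : ZMod 2) (m : Mdl (2 ^ k)) :
    Multiplicative.toAdd (chi hk x y w m) =
      x * par hk (m.a + m.b) + y * (if m.s then 1 else 0) + w * (if m.t then 1 else 0) := rfl

theorem sq_form (m : Mdl (2 ^ k)) : (m * m).s = false ∧ (m * m).t = false := by
  simp [Mdl.mul_def]

theorem chi_conj (hk : 2 ≤ k) (x y w : ZMod 2) (c m : Mdl (2 ^ k)) :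
    chi hk x y w (c * m * c⁻¹) = chi hk x y w m := by
  rw [map_mul, map_mul, map_inv, mul_comm, inv_mul_cancel_left]

/-- Involutions: in the four group, or conjugate to one of five. -/
theorem classify (hk : 2 ≤ k) {m : Mdl (2 ^ k)} (h : m * m = 1) (h1 : m ≠ 1) :
    (m = zc k ∨ m = uc k ∨ m = uc' k) ∨
    ∃ r ∈ [Mdl.sg, tau k, iot k 0 0, iot k 1 0, iot k 1 1], IsConj r m := by
  obtain ⟨a, b, s, t⟩ := m
  simp only [Mdl.mul_def, Mdl.one_def, Mdl.mk.injEq] at h
  simp only [isConj_iff]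
  cases s <;> cases t
  · refine Or.inl ?_
    obtain ⟨ha, hb, -⟩ := h
    rcases two_torsion hk ha with rfl | rfl <;> rcases two_torsion hk hb with rfl | rfl
    · exact absurd rfl h1
    · exact Or.inr (Or.inr rfl)
    · exact Or.inr (Or.inl rfl)
    · exact Or.inl rfl
  · refine Or.inr ?_
    have : NeZero (2 ^ k) := ⟨by positivity⟩
    have hd : ∀ x : ZMod (2 ^ k), ∃ w : ZMod (2 ^ k), ∃ e : ℕ, e < 2 ∧ x = (e : ZMod (2 ^ k)) + (w + w) :=
      fun x => ⟨((x.val / 2 : ℕ) : ZMod (2 ^ k)), x.val % 2, Nat.mod_lt _ (by norm_num), by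
        rw [← Nat.cast_add, ← Nat.cast_add]
        conv_lhs => rw [← ZMod.natCast_zmod_val x]
        congr 1
        omega⟩
    obtain ⟨wa, ea, hea, rfl⟩ := hd a
    obtain ⟨wb, eb, heb, rfl⟩ := hd b
    interval_cases ea <;> interval_cases eb
    · exact ⟨iot k 0 0, by simp, Mdl.el wa wb, by simp [Mdl.el, iot, Mdl.mul_def, Mdl.inv_def, Mdl.act] <;> first | exact ⟨by ring, by ring⟩ | ring⟩
    · exact ⟨iot k 1 0, by simp, Mdl.el wa wb * Mdl.sg, by
        simp [Mdl.el, Mdl.sg, iot, Mdl.mul_def, Mdl.inv_def, Mdl.act] <;> first | exact ⟨by ring, by ring⟩ | ring⟩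
    · exact ⟨iot k 1 0, by simp, Mdl.el wa wb, by simp [Mdl.el, iot, Mdl.mul_def, Mdl.inv_def, Mdl.act] <;> first | exact ⟨by ring, by ring⟩ | ring⟩
    · exact ⟨iot k 1 1, by simp, Mdl.el wa wb, by simp [Mdl.el, iot, Mdl.mul_def, Mdl.inv_def, Mdl.act] <;> first | exact ⟨by ring, by ring⟩ | ring⟩
  · refine Or.inr ⟨Mdl.sg, by simp, Mdl.el a 0, ?_⟩
    obtain ⟨ha, -⟩ := h
    simp only [Mdl.act, if_true] at ha
    have hb : b = -a := eq_neg_of_add_eq_zero_right (by simpa using ha)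
    subst hb
    simp [Mdl.el, Mdl.sg, Mdl.mul_def, Mdl.inv_def, Mdl.act]
  · refine Or.inr ⟨tau k, by simp, Mdl.el a 0, ?_⟩
    obtain ⟨ha, -⟩ := h
    have hb : b = a := by
      have : a + -b = 0 := by simpa [Mdl.act] using ha
      exact (eq_of_sub_eq_zero (by rw [sub_eq_add_neg]; exact this)).symm
    subst hb
    simp [Mdl.el, tau, Mdl.mul_def, Mdl.inv_def, Mdl.act]

theorem eq_zc_of_sq (hk : 2 ≤ k) {m : Mdl (2 ^ k)} (h : m * m = 1) (h1 : m ≠ 1) (hs : m.s = false)
    (ht : m.t = false) : m = zc k ∨ m = uc k ∨ m = uc' k := by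
  obtain ⟨a, b, s, t⟩ := m
  subst hs ht
  simp only [Mdl.mul_def, Mdl.one_def, Mdl.mk.injEq] at h
  obtain ⟨ha, hb, -⟩ := h
  rcases two_torsion hk ha with rfl | rfl <;> rcases two_torsion hk hb with rfl | rfl
  · exact absurd rfl h1
  · exact Or.inr (Or.inr rfl)
  · exact Or.inr (Or.inl rfl)
  · exact Or.inl rfl

/-- Away from the four group centralisers have order at most `4 N`. -/
theorem card_centralizer_le (hk : 2 ≤ k) (y : Mdl (2 ^ k)) (h : y.s = true ∨ y.t = true) :
    Nat.card (Subgroup.centralizer ({y} : Set (Mdl (2 ^ k)))) ≤ 4 * 2 ^ k := by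
  classical
  have : NeZero (2 ^ k) := ⟨by positivity⟩
  set C := Subgroup.centralizer ({y} : Set (Mdl (2 ^ k)))
  let π : C →* Multiplicative (ZMod 2) × Multiplicative (ZMod 2) :=
    ((chi hk 0 1 0).prod (chi hk 0 0 1)).comp C.subtype
  have hker : Nat.card π.ker ≤ 2 ^ k := by
    have hm : ∀ x : π.ker, ((x : C) : Mdl (2 ^ k)).s = false ∧ ((x : C) : Mdl (2 ^ k)).t = false ∧
        Mdl.act y.s y.t (((x : C) : Mdl (2 ^ k)).a, ((x : C) : Mdl (2 ^ k)).b) =
          (((x : C) : Mdl (2 ^ k)).a, ((x : C) : Mdl (2 ^ k)).b) := fun x => by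
      obtain ⟨⟨⟨a, b, s, t⟩, hx⟩, hx'⟩ := x
      have hc := Subgroup.mem_centralizer_singleton_iff.mp hx
      simp [π, MonoidHom.mem_ker, Prod.ext_iff, chi] at hx'
      cases s <;> cases t <;> simp at hx'
      obtain ⟨c, d, s', t'⟩ := y
      simp [Mdl.mul_def, Mdl.act] at hc
      refine ⟨rfl, rfl, ?_⟩
      cases s' <;> cases t' <;> simp [Mdl.act] at hc ⊢ <;>
        exact ⟨by linear_combination -hc.1, by linear_combination -hc.2⟩
    by_cases hs : y.s = true
    · refine le_of_le_of_eq (Nat.card_le_card_of_injective (fun x : π.ker => ((x : C) : Mdl (2 ^ k)).a) ?_)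
        (Nat.card_zmod _)
      intro x x' hxx
      obtain ⟨h1, h2, h3⟩ := hm x
      obtain ⟨h1', h2', h3'⟩ := hm x'
      simp only [Mdl.act, hs, if_true] at h3 h3'
      refine Subtype.ext (Subtype.ext (Mdl.ext hxx ?_ (h1.trans h1'.symm) (h2.trans h2'.symm)))
      cases hyt : y.t <;> simp [hyt, Prod.ext_iff] at h3 h3' hxx
      · rw [h3.1, h3'.1, hxx]
      · have e1 := neg_eq_iff_eq_neg.mp h3.1
        have e2 := neg_eq_iff_eq_neg.mp h3'.1
        rw [e1, e2, hxx]
    · have hyt : y.t = true := h.resolve_left hs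
      have hys : y.s = false := by simpa using hs
      refine le_trans (Nat.card_le_card_of_injective (β := Bool × Bool)
        (fun x : π.ker => (decide (((x : C) : Mdl (2 ^ k)).a = 0), decide (((x : C) : Mdl (2 ^ k)).b = 0))) ?_) ?_
      · intro x x' hxx
        obtain ⟨h1, h2, h3⟩ := hm x
        obtain ⟨h1', h2', h3'⟩ := hm x'
        simp [Mdl.act, hys, hyt, Prod.ext_iff] at h3 h3' hxx
        have key : ∀ p p' : ZMod (2 ^ k), -p = p → -p' = p' → (p = 0 ↔ p' = 0) → p = p' := fun p p' hp hp' he => by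
          rcases two_torsion hk (show p + p = 0 by nth_rewrite 1 [← hp]; exact neg_add_cancel p) with hq | hq <;>
            rcases two_torsion hk (show p' + p' = 0 by nth_rewrite 1 [← hp']; exact neg_add_cancel p') with hq' | hq'
          · rw [hq, hq']
          · rw [hq, he.mp hq]
          · rw [hq', he.mpr hq']
          · rw [hq, hq']
        exact Subtype.ext (Subtype.ext (Mdl.ext (key _ _ h3.1 h3'.1 hxx.1) (key _ _ h3.2 h3'.2 hxx.2)
          (h1.trans h1'.symm) (h2.trans h2'.symm)))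
      · calc Nat.card (Bool × Bool) = 2 ^ 2 := by simp [Nat.card_prod]
          _ ≤ 2 ^ k := Nat.pow_le_pow_right (by norm_num) hk
  have hi : π.ker.index ≤ 4 := by
    rw [Subgroup.index_ker]
    refine (Subgroup.card_le_card_group _).trans ?_
    simp [Nat.card_prod]
  rw [← π.ker.card_mul_index, mul_comm]
  exact Nat.mul_le_mul hi hker

end CfsgLib.GTwoFusion
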