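import Mathlib
import Cfsg.Agent.Lib.GTwoFusion.Combinatorics
import Cfsg.Agent.Lib.Transfer.Basic
import Cfsg.Agent.Lib.PCore.Basic
import Cfsg.Agent.Lib.Involutions.BrauerSuzuki

/-!
Involution fusion in a simple group with a Sylow 2-subgroup of the model shape
(Thompson transfer, Z*, and elementary local arguments).
-/

set_option autoImplicit false

open Subgroup

namespace CfsgLib.GTwoFusion

universe u

variable {G : Type u} [Group G] [Finite G]

/-- A 2-group centralising `z` is moved into a Sylow group centralising `z` by `C(z)`. -/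
theorem exists_conj_le (S : Sylow 2 G) (z : G) (hz : ∀ x ∈ (S : Subgroup G), Commute x z) (P : Subgroup G)
    (hP : IsPGroup 2 P) (hPz : ∀ x ∈ P, Commute x z) :
    ∃ c : G, Commute c z ∧ ∀ x ∈ P, c * x * c⁻¹ ∈ (S : Subgroup G) := by
  have hSC : (S : Subgroup G) ≤ centralizer ({z} : Set G) := fun x hx =>
    mem_centralizer_singleton_iff.mpr (hz x hx)
  set C := centralizer ({z} : Set G)
  have hPC : P ≤ C := fun x hx => mem_centralizer_singleton_iff.mpr (hPz x hx)
  have hP' : IsPGroup 2 (P.subgroupOf C) := hP.of_equiv (subgroupOfEquivOfLe hPC).symm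
  obtain ⟨Q, hQ⟩ := hP'.exists_le_sylow
  obtain ⟨c, hc⟩ := MulAction.exists_smul_eq C Q (S.subtype hSC)
  refine ⟨c, mem_centralizer_singleton_iff.mp c.2, fun x hx => ?_⟩
  have h1 : c * ⟨x, hPC hx⟩ * c⁻¹ ∈ (S.subtype hSC : Subgroup C) := by
    rw [← hc, Sylow.coe_subgroup_smul]
    exact ⟨⟨x, hPC hx⟩, hQ hx, rfl⟩
  rw [Sylow.coe_subtype, mem_subgroupOf] at h1
  simpa using h1

variable {k : ℕ}

variable [IsSimpleGroup G] (hG : ¬ IsMulCommutative G) (hk : 2 ≤ k) (S : Sylow 2 G) (φ : (Mdl (2 ^ k)) →* G)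
  (hφ : Function.Injective φ) (hrange : φ.range = (S : Subgroup G))

include hrange in
theorem map_mem (m : (Mdl (2 ^ k))) : φ m ∈ (S : Subgroup G) := hrange ▸ ⟨m, rfl⟩

include hrange in
theorem exists_pre {g : G} (hg : g ∈ (S : Subgroup G)) : ∃ m, φ m = g := by
  rw [← hrange] at hg; exact hg

theorem zc_central (hk : 2 ≤ k) (m : (Mdl (2 ^ k))) : zc k * m = m * zc k := by
  obtain ⟨a, b, s, t⟩ := m
  cases s <;> cases t <;> simp [zc, Mdl.el, Mdl.mul_def, Mdl.act, neg_half hk, add_comm]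

theorem zc_sq (hk : 2 ≤ k) : zc k * zc k = 1 ∧ zc k ≠ 1 := by
  refine ⟨by simp [zc, Mdl.el, Mdl.mul_def, Mdl.one_def, Mdl.act, half_add hk], fun h => ?_⟩
  simp [zc, Mdl.el, Mdl.one_def] at h
  exact half_ne hk h

theorem uc_conj (hk : 2 ≤ k) : IsConj (uc k) (uc' k) := by
  rw [isConj_iff]
  exact ⟨Mdl.sg, by simp [uc, uc', Mdl.sg, Mdl.el, Mdl.mul_def, Mdl.inv_def, Mdl.act]⟩

include hφ in
theorem eq_one_of (m : (Mdl (2 ^ k))) (h : φ m = 1) : m = 1 := hφ (h.trans φ.map_one.symm)

include hrange in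
/-- Carrying an element to the centre together with its centraliser. -/
theorem carry (hk : 2 ≤ k) {x : (Mdl (2 ^ k))} (h : IsConj (φ x) (φ (zc k))) :
    ∃ g : G, g * φ x * g⁻¹ = φ (zc k) ∧ ∀ m : (Mdl (2 ^ k)), m * x = x * m → ∃ m' : (Mdl (2 ^ k)), φ m' = g * φ m * g⁻¹ := by
  obtain ⟨g₀, hg₀⟩ := isConj_iff.mp h
  have hz : ∀ y ∈ (S : Subgroup G), Commute y (φ (zc k)) := fun y hy => by
    obtain ⟨m, rfl⟩ := exists_pre S φ hrange hy
    exact (show Commute m (zc k) from (zc_central hk m).symm).map φ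
  obtain ⟨c, hc, hcS⟩ := exists_conj_le S (φ (zc k)) hz
    (((centralizer ({x} : Set (Mdl (2 ^ k)))).map φ).map (MulAut.conj g₀).toMonoidHom)
    ((S.isPGroup'.to_le (by rw [← hrange]; exact map_le_range φ _)).map _) (by
    rintro y ⟨-, ⟨m, hm, rfl⟩, rfl⟩
    rw [← hg₀]
    exact (Commute.map (show Commute m x from mem_centralizer_singleton_iff.mp hm) φ).map (MulAut.conj g₀).toMonoidHom)
  refine ⟨c * g₀, ?_, fun m hm => ?_⟩
  · rw [show c * g₀ * φ x * (c * g₀)⁻¹ = c * (g₀ * φ x * g₀⁻¹) * c⁻¹ by group, hg₀, hc.eq, mul_inv_cancel_right]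
  · refine exists_pre S φ hrange ?_
    rw [show c * g₀ * φ m * (c * g₀)⁻¹ = c * (g₀ * φ m * g₀⁻¹) * c⁻¹ by group]
    exact hcS _ ⟨φ m, ⟨m, mem_centralizer_singleton_iff.mpr hm, rfl⟩, rfl⟩

include hG hrange hφ in
/-- The transfer step. -/
theorem transfer_step {x : (Mdl (2 ^ k))} (hx : x * x = 1) (hx1 : x ≠ 1) (χ : (Mdl (2 ^ k)) →* Multiplicative (ZMod 2)) (hc : χ x ≠ 1) :
    ∃ m : (Mdl (2 ^ k)), m * m = 1 ∧ m ≠ 1 ∧ χ m = 1 ∧ IsConj (φ x) (φ m) := by
  by_contra hne
  push Not at hne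
  set Q := χ.ker.map φ
  have hQi : Q.relIndex (S : Subgroup G) = 2 := by
    rw [← hrange, φ.range_eq_map, Subgroup.relIndex_map_map_of_injective _ _ hφ, relIndex_top_right,
      Subgroup.index_ker]
    have hsur : χ.range = ⊤ := by
      refine eq_top_iff.mpr fun v _ => ?_
      by_cases hv : v = 1
      · exact hv ▸ one_mem _
      · have key : ∀ v w : Multiplicative (ZMod 2), v ≠ 1 → w ≠ 1 → w = v := by decide
        exact ⟨x, key v (χ x) hv hc⟩
    rw [hsur, card_top]
    simp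
  obtain ⟨N, hN, hNi, -⟩ := CfsgLib.Transfer.thompson_transfer S Q hQi (φ x)
    (by rw [pow_two, ← map_mul, hx, map_one]) (fun g hgS hgQ => by
      obtain ⟨m, hm, hme⟩ := hgQ
      refine hne m ?_ ?_ hm (isConj_iff.mpr ⟨g, hme.symm⟩)
      · apply hφ
        rw [map_mul, hme, map_one, show g * φ x * g⁻¹ * (g * φ x * g⁻¹) = g * (φ x * φ x) * g⁻¹ by group,
          ← map_mul, hx, map_one, mul_one, mul_inv_cancel]
      · rintro rfl
        rw [map_one] at hme
        exact hx1 (eq_one_of φ hφ _ (conj_eq_one_iff.mp hme.symm)))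
  rcases hN.eq_bot_or_eq_top with h | h
  · rw [h, index_bot] at hNi
    exact hG (isCyclic_of_prime_card (p := 2) hNi).isMulCommutative
  · rw [h, index_top] at hNi
    exact absurd hNi (by norm_num)

include hG hk hφ hrange in
/-- The central involution is not isolated. -/
theorem exists_fused_zc : ∃ y : (Mdl (2 ^ k)), y ≠ zc k ∧ y * y = 1 ∧ y ≠ 1 ∧ IsConj (φ y) (φ (zc k)) := by
  set z := φ (zc k) with hz
  have hz2 : orderOf z = 2 := orderOf_eq_prime (by rw [pow_two, hz, ← map_mul, (zc_sq hk).1, map_one])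
    (fun h => (zc_sq hk).2 (eq_one_of φ hφ _ h))
  by_cases hiso : Cfsg.IsIsolatedInvolution z
  · exfalso
    have hZ := CfsgLib.Involutions.zstar G z hiso
    rcases (inferInstance : (Cfsg.pPrimeCore 2 G).Normal).eq_bot_or_eq_top with h | h
    · refine hG ⟨⟨fun a b => ?_⟩⟩
      have hc : z ∈ center G := mem_center_iff.mpr fun g => by
        have h1 : g * z * g⁻¹ * z⁻¹ = 1 := by simpa [h] using hZ g
        rw [mul_inv_eq_one, mul_inv_eq_iff_eq_mul] at h1
        exact h1
      rcases (inferInstance : (center G).Normal).eq_bot_or_eq_top with h' | h'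
      · rw [h'] at hc
        rw [mem_bot.mp hc, orderOf_one] at hz2
        exact absurd hz2 (by norm_num)
      · exact mem_center_iff.mp (h' ▸ mem_top b) a
    · have h2 : 2 ∣ Nat.card G := hz2 ▸ orderOf_dvd_natCard z
      have hcop := CfsgLib.PCore.not_dvd_card_pPrimeCore (p := 2) (G := G)
      rw [h, card_top] at hcop
      exact hcop h2
  · simp only [Cfsg.IsIsolatedInvolution, hz2, true_and] at hiso
    push Not at hiso
    obtain ⟨g, hgc, hgne⟩ := hiso
    set w := g * z * g⁻¹ with hw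
    have hww : w * w = 1 := by
      rw [hw, show g * z * g⁻¹ * (g * z * g⁻¹) = g * (z * z) * g⁻¹ by group, ← pow_two, ← hz2, pow_orderOf_eq_one]
      group
    have hw2 : orderOf w = 2 := by rw [hw, CfsgLib.Involutions.orderOf_conj_eq, hz2]
    have hS : ∀ y ∈ (S : Subgroup G), Commute y z := fun y hy => by
      obtain ⟨m, rfl⟩ := exists_pre S φ hrange hy
      exact (show Commute m (zc k) from (zc_central hk m).symm).map φ
    obtain ⟨c, hc, hcS⟩ := exists_conj_le S z hS (zpowers w)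
      (IsPGroup.of_card (n := 1) (by rw [Nat.card_zpowers, hw2, pow_one])) (fun x hx => by
        obtain ⟨i, rfl⟩ := hx
        exact (hgc.symm).zpow_left i)
    obtain ⟨y, hy⟩ := exists_pre S φ hrange (hcS w (mem_zpowers w))
    refine ⟨y, fun h => ?_, ?_, ?_, ?_⟩
    · subst h
      refine hgne ?_
      have h1 : c * w * c⁻¹ = z := hy.symm
      rw [mul_inv_eq_iff_eq_mul, ← hc.eq] at h1
      exact mul_left_cancel h1
    · apply hφ
      rw [map_mul, hy, map_one, show c * w * c⁻¹ * (c * w * c⁻¹) = c * (w * w) * c⁻¹ by group, hww, mul_one,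
        mul_inv_cancel]
    · rintro rfl
      rw [map_one] at hy
      rw [conj_eq_one_iff.mp hy.symm, orderOf_one] at hw2
      exact absurd hw2 (by norm_num)
    · rw [hy, hw, show c * (g * z * g⁻¹) * c⁻¹ = (c * g) * z * (c * g)⁻¹ by group]
      exact (isConj_iff.mpr ⟨c * g, rfl⟩).symm

include hrange hφ in
theorem uc_fused_of_good (hk : 2 ≤ k) {x c : (Mdl (2 ^ k))} (hx : x ≠ zc k) (hc : c * x = x * c) (hcz : c * c = zc k)
    (h : IsConj (φ x) (φ (zc k))) : IsConj (φ (uc k)) (φ (zc k)) := by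
  obtain ⟨g, hg, hcar⟩ := carry S φ hrange hk h
  obtain ⟨c', hc'⟩ := hcar c hc
  have he : φ (c' * c') = g * φ (zc k) * g⁻¹ := by rw [← hcz, φ.map_mul, φ.map_mul, hc']; group
  have h1 : c' * c' ≠ 1 := fun e => (zc_sq hk).2 (eq_one_of φ hφ _ ((conj_eq_one_iff (a := g)).mp (by rw [← he, e, φ.map_one])))
  have h2 : (c' * c') * (c' * c') = 1 := by
    apply hφ
    rw [map_mul, he, show g * φ (zc k) * g⁻¹ * (g * φ (zc k) * g⁻¹) = g * (φ (zc k) * φ (zc k)) * g⁻¹ by group,
      ← map_mul, (zc_sq hk).1, map_one, mul_one, mul_inv_cancel]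
  have hcj : IsConj (φ (zc k)) (φ (c' * c')) := he ▸ isConj_iff.mpr ⟨g, rfl⟩
  rcases eq_zc_of_sq hk h2 h1 (sq_form c').1 (sq_form c').2 with e | e | e
  · exfalso
    refine hx (hφ ?_)
    have : g * φ x * g⁻¹ = g * φ (zc k) * g⁻¹ := by rw [hg, ← he, e]
    exact mul_left_cancel (mul_right_cancel this)
  · rw [e] at hcj; exact hcj.symm
  · rw [e] at hcj; exact ((φ.map_isConj (uc_conj hk)).trans hcj.symm)

include hG hk hφ hrange in
/-- `u` is conjugate to `z`. -/
theorem uc_fused : IsConj (φ (uc k)) (φ (zc k)) := by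
  by_contra hu
  obtain ⟨y, hy, hyy, hy1, hyz⟩ := exists_fused_zc hG hk S φ hφ hrange
  rcases classify hk hyy hy1 with (rfl | rfl | rfl) | ⟨r, hr, hry⟩
  · exact hy rfl
  · exact hu hyz
  · exact hu ((φ.map_isConj (uc_conj hk)).trans hyz)
  have hrz : IsConj (φ r) (φ (zc k)) := (φ.map_isConj hry).trans hyz
  have e0 : half k + half k = 0 := half_add hk
  have e1 : quarter k + quarter k = half k := quarter_add hk
  have en : -half k = half k := neg_half hk
  simp only [List.mem_cons, List.not_mem_nil, or_false] at hr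
  rcases hr with rfl | rfl | rfl | rfl | rfl
  · refine hu (uc_fused_of_good S φ hφ hrange hk (c := Mdl.el (quarter k) (quarter k)) ?_ ?_ ?_ hrz)
    · simp [zc, Mdl.sg, Mdl.el]
    · simp [Mdl.sg, Mdl.el, Mdl.mul_def, Mdl.act]
    · simp [zc, Mdl.el, Mdl.mul_def, Mdl.act, e1]
  · refine hu (uc_fused_of_good S φ hφ hrange hk (c := Mdl.el (quarter k) (-quarter k)) ?_ ?_ ?_ hrz)
    · simp [zc, tau, Mdl.el]
    · simp [tau, Mdl.el, Mdl.mul_def, Mdl.act]
    · simp [zc, Mdl.el, Mdl.mul_def, Mdl.act, e1, ← neg_add, en]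
  · refine hu (uc_fused_of_good S φ hφ hrange hk (c := Mdl.el (half k) 0 * Mdl.sg) ?_ ?_ ?_ hrz)
    · simp [zc, iot, Mdl.el]
    · simp [iot, Mdl.sg, Mdl.el, Mdl.mul_def, Mdl.act, en]
    · simp [zc, Mdl.sg, Mdl.el, Mdl.mul_def, Mdl.act]
  · -- the class with elementary centraliser
    set r := iot k 1 0
    obtain ⟨g, hg, hcar⟩ := carry S φ hrange hk hrz
    have hru : uc k * r = r * uc k := by simp [r, uc, iot, Mdl.el, Mdl.mul_def, Mdl.act, en, add_comm]
    have hru' : uc' k * r = r * uc' k := by simp [r, uc', iot, Mdl.el, Mdl.mul_def, Mdl.act, en, add_comm]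
    have hrzc : zc k * r = r * zc k := zc_central hk r
    obtain ⟨a, ha⟩ := hcar (uc k) hru
    obtain ⟨b, hb⟩ := hcar (uc' k) hru'
    obtain ⟨c, hc⟩ := hcar (zc k) hrzc
    have hab : c = a * b := by
      apply hφ
      rw [map_mul, ha, hb, hc,
        show g * φ (uc k) * g⁻¹ * (g * φ (uc' k) * g⁻¹) = g * (φ (uc k) * φ (uc' k)) * g⁻¹ by group, ← map_mul,
        show uc k * uc' k = zc k by simp [zc, uc, uc', Mdl.el, Mdl.mul_def, Mdl.act]]
    have hcz : c ≠ zc k := fun e => by
      rw [e] at hc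
      have : g * φ r * g⁻¹ = g * φ (zc k) * g⁻¹ := by rw [hg, ← hc]
      have := hφ (mul_left_cancel (mul_right_cancel this))
      simp [r, iot, zc, Mdl.el] at this
    have hcc : c * c = 1 := by
      apply hφ
      rw [map_mul, hc, show g * φ (zc k) * g⁻¹ * (g * φ (zc k) * g⁻¹) = g * (φ (zc k) * φ (zc k)) * g⁻¹ by group,
        ← map_mul, (zc_sq hk).1, map_one, mul_one, mul_inv_cancel]
    have hc1 : c ≠ 1 := fun e => (zc_sq hk).2 (eq_one_of φ hφ _ ((conj_eq_one_iff (a := g)).mp (by rw [← hc, e, φ.map_one])))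
    have hcj : IsConj (φ (zc k)) (φ c) := hc ▸ isConj_iff.mpr ⟨g, rfl⟩
    rcases classify hk hcc hc1 with (rfl | rfl | rfl) | ⟨r', hr', hr'c⟩
    · exact hcz rfl
    · exact hu hcj.symm
    · exact hu ((φ.map_isConj (uc_conj hk)).trans hcj.symm)
    simp only [List.mem_cons, List.not_mem_nil, or_false] at hr'
    have hr'z : IsConj (φ r') (φ (zc k)) := (φ.map_isConj hr'c).trans hcj.symm
    rcases hr' with rfl | rfl | rfl | rfl | rfl
    · refine hu (uc_fused_of_good S φ hφ hrange hk (c := Mdl.el (quarter k) (quarter k)) ?_ ?_ ?_ hr'z)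
      · simp [zc, Mdl.sg, Mdl.el]
      · simp [Mdl.sg, Mdl.el, Mdl.mul_def, Mdl.act]
      · simp [zc, Mdl.el, Mdl.mul_def, Mdl.act, e1]
    · refine hu (uc_fused_of_good S φ hφ hrange hk (c := Mdl.el (quarter k) (-quarter k)) ?_ ?_ ?_ hr'z)
      · simp [zc, tau, Mdl.el]
      · simp [tau, Mdl.el, Mdl.mul_def, Mdl.act]
      · simp [zc, Mdl.el, Mdl.mul_def, Mdl.act, e1, ← neg_add, en]
    · refine hu (uc_fused_of_good S φ hφ hrange hk (c := Mdl.el (half k) 0 * Mdl.sg) ?_ ?_ ?_ hr'z)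
      · simp [zc, iot, Mdl.el]
      · simp [iot, Mdl.sg, Mdl.el, Mdl.mul_def, Mdl.act, en]
      · simp [zc, Mdl.sg, Mdl.el, Mdl.mul_def, Mdl.act]
    · -- `c` in the class of `r`, all of whose coset is fused to `z`
      obtain ⟨d, hd⟩ := isConj_iff.mp hr'c
      have hform : c.s = false ∧ c.t = true ∧ par hk (c.a + c.b) = 1 := by
        have p0 := congrArg Multiplicative.toAdd (chi_conj hk 0 1 0 d (iot k 1 0))
        have p1 := congrArg Multiplicative.toAdd (chi_conj hk 0 0 1 d (iot k 1 0))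
        have p2 := congrArg Multiplicative.toAdd (chi_conj hk 1 0 0 d (iot k 1 0))
        rw [hd] at p0 p1 p2
        simp [chi_apply, iot] at p0 p1 p2
        exact ⟨p0, p1, by rw [map_add]; exact p2⟩
      have key : ∀ e : (Mdl (2 ^ k)), e * c = c * e → e * e = 1 → e ≠ 1 → IsConj (φ e) (φ (uc k)) → e = uc k ∨ e = uc' k := by
        intro e hec hee he1 hej
        rcases classify hk hee he1 with (h | h | h) | ⟨s, hs, hse⟩
        · exact absurd (h ▸ hej).symm hu
        · exact Or.inl h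
        · exact Or.inr h
        · exfalso
          obtain ⟨ea, eb, es, et⟩ := e
          obtain ⟨ca, cb, cs, ct⟩ := c
          obtain ⟨rfl, rfl, hp⟩ := hform
          cases es <;> cases et
          · obtain ⟨p, hp'⟩ := isConj_iff.mp hse
            have p0 := congrArg Multiplicative.toAdd (chi_conj hk 0 1 0 p s)
            have p1 := congrArg Multiplicative.toAdd (chi_conj hk 0 0 1 p s)
            rw [hp'] at p0 p1
            simp only [List.mem_cons, List.not_mem_nil, or_false] at hs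
            rcases hs with rfl | rfl | rfl | rfl | rfl <;> simp [chi_apply, iot, tau, Mdl.sg] at p0 p1
          · simp [Mdl.mul_def, Mdl.act] at hec
            obtain ⟨h1, h2⟩ := hec
            have d1 : (ea - ca) + (ea - ca) = 0 := by linear_combination h1
            have d2 : (eb - cb) + (eb - cb) = 0 := by linear_combination h2
            have hpe : par hk (ea + eb) = 1 := by
              rcases two_torsion hk d1 with e1 | e1 <;> rcases two_torsion hk d2 with e2 | e2 <;>
                simp [sub_eq_iff_eq_add] at e1 e2 <;> subst e1 e2 <;>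
                simpa [map_add, par_half] using hp
            obtain ⟨p, hp'⟩ := isConj_iff.mp hse
            have p0 := congrArg Multiplicative.toAdd (chi_conj hk 0 1 0 p s)
            have p1 := congrArg Multiplicative.toAdd (chi_conj hk 1 0 0 p s)
            rw [hp'] at p0 p1
            simp [chi_apply] at p0 p1
            rw [map_add] at hpe
            rw [hpe] at p1
            simp only [List.mem_cons, List.not_mem_nil, or_false] at hs
            rcases hs with rfl | rfl | rfl | rfl | rfl <;> simp [iot, tau, Mdl.sg] at p0 p1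
            exact hu ((hej.symm.trans (φ.map_isConj hse).symm).trans hrz)
          all_goals
            simp [Mdl.mul_def, Mdl.act] at hec
            obtain ⟨h1, h2⟩ := hec
            have h3 := congrArg (par hk) h1
            have hneg : ∀ v : ZMod 2, -v = v := by decide
            simp [map_add, map_neg, hneg] at h3 hp
            revert hp
            generalize par hk ea = w at h3
            revert h3
            generalize par hk ca = x
            generalize par hk cb = y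
            revert w x y
            decide
      have hinv : ∀ {e e0 : (Mdl (2 ^ k))}, φ e = g * φ e0 * g⁻¹ → e0 * e0 = 1 → e0 ≠ 1 → e * e = 1 ∧ e ≠ 1 := fun {e e0} he h2 h1 =>
        ⟨hφ (by rw [map_mul, he, map_one, show g * φ e0 * g⁻¹ * (g * φ e0 * g⁻¹) = g * (φ e0 * φ e0) * g⁻¹ by group,
            ← map_mul, h2, map_one, mul_one, mul_inv_cancel]),
          fun e1 => h1 (eq_one_of φ hφ _ ((conj_eq_one_iff (a := g)).mp (by rw [← he, e1, φ.map_one])))⟩
      have hu2 : uc k * uc k = 1 ∧ uc k ≠ 1 := by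
        simp [uc, Mdl.el, Mdl.mul_def, Mdl.one_def, Mdl.act, e0, half_ne hk]
      have hu2' : uc' k * uc' k = 1 ∧ uc' k ≠ 1 := by
        simp [uc', Mdl.el, Mdl.mul_def, Mdl.one_def, Mdl.act, e0, half_ne hk]
      have hcomm : ∀ {e e0 : (Mdl (2 ^ k))}, φ e = g * φ e0 * g⁻¹ → e * c = c * e := fun {e e0} he => hφ (by
        rw [map_mul, map_mul, he, hc,
          show g * φ e0 * g⁻¹ * (g * φ (zc k) * g⁻¹) = g * (φ e0 * φ (zc k)) * g⁻¹ by group,
          show g * φ (zc k) * g⁻¹ * (g * φ e0 * g⁻¹) = g * (φ (zc k) * φ e0) * g⁻¹ by group,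
          ← map_mul, ← map_mul, zc_central hk])
      obtain ⟨a1, a2⟩ := hinv ha hu2.1 hu2.2
      obtain ⟨b1, b2⟩ := hinv hb hu2'.1 hu2'.2
      have ka := key a (hcomm ha) a1 a2 (ha ▸ (isConj_iff.mpr ⟨g, rfl⟩).symm)
      have kb := key b (hcomm hb) b1 b2
        ((hb ▸ (isConj_iff.mpr ⟨g, rfl⟩).symm : IsConj (φ b) (φ (uc' k))).trans (φ.map_isConj (uc_conj hk)).symm)
      rcases ka with rfl | rfl <;> rcases kb with rfl | rfl
      · exact hc1 (by rw [hab]; exact hu2.1)
      · exact hcz (by rw [hab]; simp [zc, uc, uc', Mdl.el, Mdl.mul_def, Mdl.act])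
      · exact hcz (by rw [hab]; simp [zc, uc, uc', Mdl.el, Mdl.mul_def, Mdl.act])
      · exact hc1 (by rw [hab]; exact hu2'.1)
    · refine hu (uc_fused_of_good S φ hφ hrange hk (c := Mdl.el (half k) 0 * Mdl.sg) ?_ ?_ ?_ hr'z)
      · simp [zc, iot, Mdl.el]
      · simp [iot, Mdl.sg, Mdl.el, Mdl.mul_def, Mdl.act, en, add_comm]
      · simp [zc, Mdl.sg, Mdl.el, Mdl.mul_def, Mdl.act]
  · refine hu (uc_fused_of_good S φ hφ hrange hk (c := Mdl.el (half k) 0 * Mdl.sg) ?_ ?_ ?_ hrz)
    · simp [zc, iot, Mdl.el]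
    · simp [iot, Mdl.sg, Mdl.el, Mdl.mul_def, Mdl.act, en, add_comm]
    · simp [zc, Mdl.sg, Mdl.el, Mdl.mul_def, Mdl.act]

end CfsgLib.GTwoFusion
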