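import Mathlib
import Cfsg.Agent.Lib.GTwoFusion.Fusion

/-!
At most two classes of involutions, and one class when the Sylow group has order more than 64.
-/

set_option autoImplicit false

open Subgroup

namespace CfsgLib.GTwoFusion

universe u

variable {G : Type u} [Group G] [Finite G] [IsSimpleGroup G] (hG : ¬ IsMulCommutative G) {k : ℕ} (hk : 2 ≤ k)
  (S : Sylow 2 G) (φ : Mdl (2 ^ k) →* G) (hφ : Function.Injective φ) (hrange : φ.range = (S : Subgroup G))

theorem reps_sq (hk : 2 ≤ k) : ∀ r ∈ [Mdl.sg, tau k, iot k 0 0, iot k 1 0, iot k 1 1], r * r = 1 ∧ r ≠ 1 := by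
  intro r hr
  simp only [List.mem_cons, List.not_mem_nil, or_false] at hr
  rcases hr with rfl | rfl | rfl | rfl | rfl <;>
    simp [Mdl.sg, tau, iot, Mdl.mul_def, Mdl.one_def, Mdl.act]

theorem chi_reps (hk : 2 ≤ k) (x y w : ZMod 2) :
    Multiplicative.toAdd (chi hk x y w Mdl.sg) = y ∧ Multiplicative.toAdd (chi hk x y w (tau k)) = y + w ∧
    Multiplicative.toAdd (chi hk x y w (iot k 0 0)) = w ∧ Multiplicative.toAdd (chi hk x y w (iot k 1 0)) = x + w ∧
    Multiplicative.toAdd (chi hk x y w (iot k 1 1)) = w := by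
  simp [chi_apply, Mdl.sg, tau, iot, show (1 : ZMod 2) + 1 = 0 from rfl]

include hG hk hφ hrange in
/-- Transfer, read on the seven classes. -/
theorem transfer_reps {r : Mdl (2 ^ k)} (hr : r ∈ [Mdl.sg, tau k, iot k 0 0, iot k 1 0, iot k 1 1]) (x y w : ZMod 2)
    (hc : Multiplicative.toAdd (chi hk x y w r) ≠ 0) :
    IsConj (φ r) (φ (zc k)) ∨ ∃ s ∈ [Mdl.sg, tau k, iot k 0 0, iot k 1 0, iot k 1 1],
      Multiplicative.toAdd (chi hk x y w s) = 0 ∧ IsConj (φ r) (φ s) := by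
  obtain ⟨h2, h1⟩ := reps_sq hk r hr
  obtain ⟨m, hm2, hm1, hmc, hmr⟩ := transfer_step hG S φ hφ hrange h2 h1 (chi hk x y w) (fun h => hc (by rw [h]; rfl))
  have hu := uc_fused hG hk S φ hφ hrange
  rcases classify hk hm2 hm1 with (rfl | rfl | rfl) | ⟨s, hs, hsm⟩
  · exact Or.inl hmr
  · exact Or.inl (hmr.trans hu)
  · exact Or.inl (hmr.trans ((φ.map_isConj (uc_conj hk)).symm.trans hu))
  · refine Or.inr ⟨s, hs, ?_, hmr.trans (φ.map_isConj hsm).symm⟩
    obtain ⟨p, hp⟩ := isConj_iff.mp hsm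
    rw [← hp, chi_conj] at hmc
    rw [hmc]; rfl

include hG hk hφ hrange in
/-- Some involution outside the homocyclic subgroup, of a distinguished kind, is fused to `z`. -/
theorem exists_outer_fused : IsConj (φ Mdl.sg) (φ (zc k)) ∨ IsConj (φ (tau k)) (φ (zc k)) ∨
    IsConj (φ (iot k 0 0)) (φ (zc k)) ∨ IsConj (φ (iot k 1 1)) (φ (zc k)) := by
  classical
  by_contra hne
  push Not at hne
  obtain ⟨n1, n2, n3, n4⟩ := hne
  have hu := uc_fused hG hk S φ hφ hrange
  have e0 : half k + half k = 0 := half_add hk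
  have en : -half k = half k := neg_half hk
  obtain ⟨cs, ct, c0, c1, c2⟩ := chi_reps hk 1 1 0
  have hi : ∃ i, (i = iot k 0 0 ∨ i = iot k 1 1) ∧ IsConj (φ Mdl.sg) (φ i) := by
    rcases transfer_reps hG hk S φ hφ hrange (r := Mdl.sg) (by simp) 1 1 0 (by rw [cs]; decide) with h | ⟨s, hs, hs0, h⟩
    · exact absurd h n1
    simp only [List.mem_cons, List.not_mem_nil, or_false] at hs
    rcases hs with rfl | rfl | rfl | rfl | rfl
    · rw [cs] at hs0; exact absurd hs0 (by decide)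
    · rw [ct] at hs0; exact absurd hs0 (by decide)
    · exact ⟨_, Or.inl rfl, h⟩
    · rw [c1] at hs0; exact absurd hs0 (by decide)
    · exact ⟨_, Or.inr rfl, h⟩
  obtain ⟨i, hi, hic⟩ := hi
  -- the centraliser of `σ`
  set P := (centralizer ({Mdl.sg} : Set (Mdl (2 ^ k)))).map φ with hP
  have hPS : P ≤ (S : Subgroup G) := hrange ▸ map_le_range φ _
  have hPp : IsPGroup 2 P := S.isPGroup'.to_le hPS
  have hσP : φ Mdl.sg ∈ P := ⟨Mdl.sg, mem_centralizer_singleton_iff.mpr rfl, rfl⟩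
  set C := centralizer ({φ Mdl.sg} : Set G)
  have hPC : P ≤ C := by
    rintro x ⟨m, hm, rfl⟩
    exact mem_centralizer_singleton_iff.mpr
      (by rw [← map_mul, ← map_mul, mem_centralizer_singleton_iff.mp hm])
  obtain ⟨Q, hQ⟩ := (hPp.of_equiv (subgroupOfEquivOfLe hPC).symm).exists_le_sylow
  set Q' := (Q : Subgroup C).map C.subtype with hQ'
  have hPQ : P ≤ Q' := fun x hx => ⟨⟨x, hPC hx⟩, hQ hx, rfl⟩
  obtain ⟨T, hT⟩ := (Q.isPGroup'.map C.subtype).exists_le_sylow
  obtain ⟨g, hg⟩ := MulAction.exists_smul_eq G T S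
  have hgT : ∀ x ∈ Q', g * x * g⁻¹ ∈ (S : Subgroup G) := fun x hx => by
    rw [← hg, Sylow.coe_subgroup_smul]; exact ⟨x, hT hx, rfl⟩
  obtain ⟨y, hy⟩ := exists_pre S φ hrange (hgT _ (hPQ hσP))
  have hyσ : IsConj (φ Mdl.sg) (φ y) := hy ▸ isConj_iff.mpr ⟨g, rfl⟩
  have hσ2 : (Mdl.sg : Mdl (2 ^ k)) * Mdl.sg = 1 ∧ (Mdl.sg : Mdl (2 ^ k)) ≠ 1 := reps_sq hk _ (by simp)
  have hyy : y * y = 1 := hφ (by
    rw [map_mul, hy, map_one, show g * φ Mdl.sg * g⁻¹ * (g * φ Mdl.sg * g⁻¹) = g * (φ Mdl.sg * φ Mdl.sg) * g⁻¹ by group,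
      ← map_mul, hσ2.1, map_one, mul_one, mul_inv_cancel])
  have hy1 : y ≠ 1 := fun e => hσ2.2 (eq_one_of φ hφ _ ((conj_eq_one_iff (a := g)).mp (by rw [← hy, e, φ.map_one])))
  have hyst : y.s = true ∨ y.t = true := by
    by_contra hst
    simp only [not_or, Bool.not_eq_true] at hst
    rcases eq_zc_of_sq hk hyy hy1 hst.1 hst.2 with rfl | rfl | rfl
    · exact n1 hyσ
    · exact n1 (hyσ.trans hu)
    · exact n1 (hyσ.trans ((φ.map_isConj (uc_conj hk)).symm.trans hu))
  have : NeZero (2 ^ k) := ⟨by positivity⟩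
  have hle : Nat.card Q' ≤ 4 * 2 ^ k := by
    refine le_trans ?_ (card_centralizer_le hk y hyst)
    have hmem : ∀ x : Q', ∃ m : centralizer ({y} : Set (Mdl (2 ^ k))), φ m = g * x * g⁻¹ := fun x => by
      obtain ⟨m, hm⟩ := exists_pre S φ hrange (hgT _ x.2)
      refine ⟨⟨m, mem_centralizer_singleton_iff.mpr (hφ ?_)⟩, hm⟩
      rw [map_mul, map_mul, hm, hy]
      obtain ⟨c, -, hc⟩ := x.2
      have hcc : (x : G) * φ Mdl.sg = φ Mdl.sg * x := by
        rw [← hc]; exact mem_centralizer_singleton_iff.mp c.2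
      calc g * x * g⁻¹ * (g * φ Mdl.sg * g⁻¹) = g * (x * φ Mdl.sg) * g⁻¹ := by group
        _ = g * (φ Mdl.sg * x) * g⁻¹ := by rw [hcc]
        _ = g * φ Mdl.sg * g⁻¹ * (g * x * g⁻¹) := by group
    choose F hF using hmem
    refine Nat.card_le_card_of_injective F fun x x' h => Subtype.ext ?_
    have := (hF x).symm.trans ((congrArg φ (congrArg Subtype.val h)).trans (hF x'))
    simpa using this
  have hge : 4 * 2 ^ k ≤ Nat.card P := by
    rw [hP, Nat.card_congr (Subgroup.equivMapOfInjective _ φ hφ).toEquiv.symm]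
    let f : ZMod (2 ^ k) × (Bool × Bool) → centralizer ({Mdl.sg} : Set (Mdl (2 ^ k))) := fun p =>
      ⟨⟨p.1, p.1, p.2.1, p.2.2⟩, mem_centralizer_singleton_iff.mpr (by
        obtain ⟨a, s, t⟩ := p
        cases s <;> cases t <;> simp [Mdl.sg, Mdl.mul_def, Mdl.act])⟩
    refine le_of_eq_of_le ?_ (Nat.card_le_card_of_injective f fun p p' h => ?_)
    · simp [Nat.card_prod]; ring
    · have h' := congrArg Subtype.val h
      simp only [f, Mdl.mk.injEq] at h'
      exact Prod.ext h'.1 (Prod.ext h'.2.2.1 h'.2.2.2)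
  have hQP : P = Q' := eq_of_le_of_card_ge hPQ (hle.trans hge)
  -- conjugates of `z` in `P`
  have honly : ∀ m : Mdl (2 ^ k), m * Mdl.sg = Mdl.sg * m → m * m = 1 → m ≠ 1 → IsConj (φ m) (φ (zc k)) → m = zc k := by
    intro m hmc hm2 hm1 hmz
    rcases classify hk hm2 hm1 with (rfl | rfl | rfl) | ⟨r, hr, hrm⟩
    · rfl
    · simp [uc, Mdl.el, Mdl.sg, Mdl.mul_def, Mdl.act, half_ne hk] at hmc
    · simp [uc', Mdl.el, Mdl.sg, Mdl.mul_def, Mdl.act, half_ne hk, eq_comm] at hmc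
    exfalso
    have hrz := (φ.map_isConj hrm).trans hmz
    simp only [List.mem_cons, List.not_mem_nil, or_false] at hr
    rcases hr with rfl | rfl | rfl | rfl | rfl
    · exact n1 hrz
    · exact n2 hrz
    · exact n3 hrz
    · obtain ⟨p, hp⟩ := isConj_iff.mp hrm
      have p0 := congrArg Multiplicative.toAdd (chi_conj hk 1 0 0 p (iot k 1 0))
      obtain ⟨a, b, s, t⟩ := m
      rw [hp] at p0
      have hab : a = b := by
        cases s <;> cases t <;> simp [Mdl.sg, Mdl.mul_def, Mdl.act] at hmc <;>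
          first
            | exact hmc.1
            | exact hmc.2
            | exact hmc.1.symm
            | exact hmc.2.symm
            | exact hmc
            | exact hmc.symm
      simp [chi_apply, iot, hab, show ∀ v : ZMod 2, v + v = 0 by decide] at p0
    · exact n4 hrz
  obtain ⟨γ, hγ⟩ := isConj_iff.mp hic.symm
  set V := ((centralizer ({i} : Set (Mdl (2 ^ k)))).map φ).map (MulAut.conj γ).toMonoidHom
  have hV : IsPGroup 2 V := (S.isPGroup'.to_le (hrange ▸ map_le_range φ _)).map _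
  have hVC : V ≤ C := by
    rintro x ⟨-, ⟨m, hm, rfl⟩, rfl⟩
    refine mem_centralizer_singleton_iff.mpr ?_
    rw [← hγ]
    exact ((Commute.map (show Commute m i from mem_centralizer_singleton_iff.mp hm) φ).map (MulAut.conj γ).toMonoidHom).eq
  obtain ⟨R, hR⟩ := (hV.of_equiv (subgroupOfEquivOfLe hVC).symm).exists_le_sylow
  obtain ⟨c, hc⟩ := MulAction.exists_smul_eq C R Q
  have himg : ∀ m : Mdl (2 ^ k), m * i = i * m → ∃ m' : Mdl (2 ^ k),
      m' * Mdl.sg = Mdl.sg * m' ∧ φ m' = ((c : G) * γ) * φ m * ((c : G) * γ)⁻¹ := by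
    intro m hm
    have hmV : γ * φ m * γ⁻¹ ∈ V := ⟨φ m, ⟨m, mem_centralizer_singleton_iff.mpr hm, rfl⟩, rfl⟩
    have h1 : c * ⟨γ * φ m * γ⁻¹, hVC hmV⟩ * c⁻¹ ∈ (Q : Subgroup C) := by
      rw [← hc, Sylow.coe_subgroup_smul]
      exact ⟨⟨γ * φ m * γ⁻¹, hVC hmV⟩, hR hmV, rfl⟩
    have h2 : ((c : G) * γ) * φ m * ((c : G) * γ)⁻¹ ∈ P := by
      rw [hQP]
      exact ⟨_, h1, by simp [mul_assoc]⟩
    obtain ⟨m', hm', he⟩ := h2
    exact ⟨m', mem_centralizer_singleton_iff.mp hm', he⟩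
  set δ := (c : G) * γ
  have hiu : uc k * i = i * uc k ∧ zc k * i = i * zc k := by
    refine ⟨?_, zc_central hk i⟩
    rcases hi with rfl | rfl <;> simp [uc, iot, Mdl.el, Mdl.mul_def, Mdl.act, en, add_comm]
  obtain ⟨a, ha, hae⟩ := himg _ hiu.1
  obtain ⟨b, hb, hbe⟩ := himg _ hiu.2
  have hfix : ∀ {e e0 : Mdl (2 ^ k)}, e * Mdl.sg = Mdl.sg * e → φ e = δ * φ e0 * δ⁻¹ → e0 * e0 = 1 → e0 ≠ 1 →
      IsConj (φ e0) (φ (zc k)) → e = zc k := fun {e e0} h he h2 h1 hz =>
    honly e h (hφ (by rw [map_mul, he, map_one,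
        show δ * φ e0 * δ⁻¹ * (δ * φ e0 * δ⁻¹) = δ * (φ e0 * φ e0) * δ⁻¹ by group,
        ← map_mul, h2, map_one, mul_one, mul_inv_cancel]))
      (fun e1 => h1 (eq_one_of φ hφ _ ((conj_eq_one_iff (a := δ)).mp (by rw [← he, e1, φ.map_one]))))
      ((he ▸ (isConj_iff.mpr ⟨δ, rfl⟩).symm : IsConj (φ e) (φ e0)).trans hz)
  have hu2 : uc k * uc k = 1 ∧ uc k ≠ 1 := by
    simp [uc, Mdl.el, Mdl.mul_def, Mdl.one_def, Mdl.act, e0, half_ne hk]
  have ka := hfix ha hae hu2.1 hu2.2 hu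
  have kb := hfix hb hbe (zc_sq hk).1 (zc_sq hk).2 (IsConj.refl _)
  rw [ka] at hae
  rw [kb] at hbe
  have := hφ (mul_left_cancel (mul_right_cancel (hae.symm.trans hbe)))
  simp [uc, zc, Mdl.el] at this
  exact half_ne hk this.symm

include hG hk hφ hrange in
/-- At most two classes. -/
theorem all_fused (r : Mdl (2 ^ k)) (hr : r ∈ [Mdl.sg, tau k, iot k 0 0, iot k 1 0, iot k 1 1]) :
    IsConj (φ r) (φ (zc k)) ∨ IsConj (φ r) (φ Mdl.sg) := by
  obtain ⟨cs, ct, c0, c1, c2⟩ := chi_reps hk 0 0 1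
  have step : ∀ r ∈ [tau k, iot k 0 0, iot k 1 1], IsConj (φ r) (φ (zc k)) ∨ IsConj (φ r) (φ Mdl.sg) := by
    intro r hr
    have hr5 : r ∈ [Mdl.sg, tau k, iot k 0 0, iot k 1 0, iot k 1 1] := by
      simp only [List.mem_cons, List.not_mem_nil, or_false] at hr ⊢
      rcases hr with rfl | rfl | rfl <;> simp
    have hne : Multiplicative.toAdd (chi hk 0 0 1 r) ≠ 0 := by
      simp only [List.mem_cons, List.not_mem_nil, or_false] at hr
      rcases hr with rfl | rfl | rfl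
      · rw [ct]; decide
      · rw [c0]; decide
      · rw [c2]; decide
    rcases transfer_reps hG hk S φ hφ hrange hr5 0 0 1 hne with h | ⟨s, hs, hs0, h⟩
    · exact Or.inl h
    simp only [List.mem_cons, List.not_mem_nil, or_false] at hs
    rcases hs with rfl | rfl | rfl | rfl | rfl
    · exact Or.inr h
    · rw [ct] at hs0; exact absurd hs0 (by decide)
    · rw [c0] at hs0; exact absurd hs0 (by decide)
    · rw [c1] at hs0; exact absurd hs0 (by decide)
    · rw [c2] at hs0; exact absurd hs0 (by decide)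
  have main : ∀ r ∈ [Mdl.sg, tau k, iot k 0 0, iot k 1 1],
      IsConj (φ r) (φ (zc k)) ∨ IsConj (φ r) (φ Mdl.sg) := by
    intro r hr
    rcases List.mem_cons.mp hr with rfl | hr
    · exact Or.inr (IsConj.refl _)
    · exact step r hr
  simp only [List.mem_cons, List.not_mem_nil, or_false] at hr
  rcases hr with rfl | rfl | rfl | rfl | rfl
  · exact main _ (by simp)
  · exact main _ (by simp)
  · exact main _ (by simp)
  · rcases transfer_reps hG hk S φ hφ hrange (r := iot k 1 0) (by simp) 1 0 0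
      (by simp [(chi_reps hk 1 0 0)]) with h | ⟨s, hs, hs0, h⟩
    · exact Or.inl h
    simp only [List.mem_cons, List.not_mem_nil, or_false] at hs
    rcases hs with rfl | rfl | rfl | rfl | rfl
    · exact Or.inr h
    · exact (main _ (by simp)).imp h.trans h.trans
    · exact (main _ (by simp)).imp h.trans h.trans
    · simp [(chi_reps hk 1 0 0)] at hs0
    · exact (main _ (by simp)).imp h.trans h.trans
  · exact main _ (by simp)

include hG hk hφ hrange in
/-- One class when `N ≥ 8`. -/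
theorem sg_fused (h3 : 3 ≤ k) : IsConj (φ Mdl.sg) (φ (zc k)) := by
  have hu := uc_fused hG hk S φ hφ hrange
  have e0 : half k + half k = 0 := half_add hk
  have en : -half k = half k := neg_half hk
  rcases exists_outer_fused hG hk S φ hφ hrange with h | h | h
  · exact h
  · obtain ⟨cs, ct, c0, c1, c2⟩ := chi_reps hk 0 1 1
    rcases transfer_reps hG hk S φ hφ hrange (r := Mdl.sg) (by simp) 0 1 1 (by rw [cs]; decide) with h' | ⟨s, hs, hs0, h'⟩
    · exact h'
    simp only [List.mem_cons, List.not_mem_nil, or_false] at hs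
    rcases hs with rfl | rfl | rfl | rfl | rfl
    · rw [cs] at hs0; exact absurd hs0 (by decide)
    · exact h'.trans h
    · rw [c0] at hs0; exact absurd hs0 (by decide)
    · rw [c1] at hs0; exact absurd hs0 (by decide)
    · rw [c2] at hs0; exact absurd hs0 (by decide)
  -- `i = (a, a) ι` fused to `z`
  have main : ∀ i : Mdl (2 ^ k), (i = iot k 0 0 ∨ i = iot k 1 1) → IsConj (φ i) (φ (zc k)) →
      IsConj (φ Mdl.sg) (φ (zc k)) := by
    intro i hi hiz
    by_contra hσ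
    obtain ⟨g, hg, hcar⟩ := carry S φ hrange hk hiz
    have hci : Mdl.sg * i = i * Mdl.sg ∧ uc k * i = i * uc k := by
      rcases hi with rfl | rfl <;> simp [uc, iot, Mdl.sg, Mdl.el, Mdl.mul_def, Mdl.act, en, add_comm]
    obtain ⟨y, hy⟩ := hcar Mdl.sg hci.1
    obtain ⟨v, hv⟩ := hcar (uc k) hci.2
    obtain ⟨w, hw⟩ := hcar (zc k) (zc_central hk i)
    have hsq : ∀ {e e0 : Mdl (2 ^ k)}, φ e = g * φ e0 * g⁻¹ → e0 * e0 = 1 → e0 ≠ 1 → e * e = 1 ∧ e ≠ 1 := fun {e e0} he h2 h1 =>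
      ⟨hφ (by rw [map_mul, he, map_one, show g * φ e0 * g⁻¹ * (g * φ e0 * g⁻¹) = g * (φ e0 * φ e0) * g⁻¹ by group,
          ← map_mul, h2, map_one, mul_one, mul_inv_cancel]),
        fun e1 => h1 (eq_one_of φ hφ _ ((conj_eq_one_iff (a := g)).mp (by rw [← he, e1, φ.map_one])))⟩
    obtain ⟨w2, w1⟩ := hsq hw (zc_sq hk).1 (zc_sq hk).2
    obtain ⟨v2, v1⟩ := hsq hv (by simp [uc, Mdl.el, Mdl.mul_def, Mdl.one_def, Mdl.act, e0])
      (by simp [uc, Mdl.el, Mdl.one_def, half_ne hk])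
    obtain ⟨y2, y1⟩ := hsq hy (reps_sq hk _ (by simp)).1 (reps_sq hk _ (by simp)).2
    have hyv : w = (v * y) * (v * y) := hφ (by
      rw [hw, show φ (v * y * (v * y)) = (g * φ (uc k) * g⁻¹) * (g * φ Mdl.sg * g⁻¹) * ((g * φ (uc k) * g⁻¹) * (g * φ Mdl.sg * g⁻¹)) by
        rw [φ.map_mul, φ.map_mul, hv, hy]]
      rw [show g * φ (uc k) * g⁻¹ * (g * φ Mdl.sg * g⁻¹) * (g * φ (uc k) * g⁻¹ * (g * φ Mdl.sg * g⁻¹)) =
        g * (φ (uc k) * φ Mdl.sg * (φ (uc k) * φ Mdl.sg)) * g⁻¹ by group, ← map_mul, ← map_mul]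
      congr 3
      simp [uc, zc, Mdl.el, Mdl.sg, Mdl.mul_def, Mdl.act])
    have hwz : w ≠ zc k := fun e => by
      rw [e] at hw
      have := hφ (mul_left_cancel (mul_right_cancel (hg.trans hw)))
      rcases hi with rfl | rfl <;> simp [iot, zc, Mdl.el] at this
    have hws : w.s = false ∧ w.t = false := hyv ▸ sq_form (v * y)
    have hyw : y * w = w * y := hφ (by
      rw [map_mul, map_mul, hy, hw,
        show g * φ Mdl.sg * g⁻¹ * (g * φ (zc k) * g⁻¹) = g * (φ Mdl.sg * φ (zc k)) * g⁻¹ by group,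
        show g * φ (zc k) * g⁻¹ * (g * φ Mdl.sg * g⁻¹) = g * (φ (zc k) * φ Mdl.sg) * g⁻¹ by group,
        ← map_mul, ← map_mul, zc_central hk])
    have hvw : v * w = w * v := hφ (by
      rw [map_mul, map_mul, hv, hw,
        show g * φ (uc k) * g⁻¹ * (g * φ (zc k) * g⁻¹) = g * (φ (uc k) * φ (zc k)) * g⁻¹ by group,
        show g * φ (zc k) * g⁻¹ * (g * φ (uc k) * g⁻¹) = g * (φ (zc k) * φ (uc k)) * g⁻¹ by group,
        ← map_mul, ← map_mul, zc_central hk])
    have hvz : IsConj (φ v) (φ (zc k)) := (hv ▸ (isConj_iff.mpr ⟨g, rfl⟩).symm : IsConj (φ v) (φ (uc k))).trans hu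
    have hyσ : IsConj (φ Mdl.sg) (φ y) := hy ▸ isConj_iff.mpr ⟨g, rfl⟩
    have hys : y.s = false ∧ v.s = false := by
      obtain ⟨ya, yb, ys, yt⟩ := y
      obtain ⟨va, vb, vs, vt⟩ := v
      have h2 := half_ne hk
      rcases eq_zc_of_sq hk w2 w1 hws.1 hws.2 with rfl | rfl | rfl
      · exact absurd rfl hwz
      all_goals
        cases ys <;> cases vs <;> cases yt <;> cases vt <;>
          simp [uc, uc', Mdl.el, Mdl.mul_def, Mdl.act, en, h2, h2.symm, add_comm] at hyw hvw ⊢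
    have hyt : y.t = true := by
      by_contra hyt
      simp only [Bool.not_eq_true] at hyt
      rcases eq_zc_of_sq hk y2 y1 hys.1 hyt with rfl | rfl | rfl
      · exact hσ hyσ
      · exact hσ (hyσ.trans hu)
      · exact hσ (hyσ.trans ((φ.map_isConj (uc_conj hk)).symm.trans hu))
    obtain ⟨ya, yb, ys, yt⟩ := y
    obtain ⟨va, vb, vs, vt⟩ := v
    obtain ⟨rfl, rfl⟩ := hys
    subst hyt
    cases vt
    · have hwone : w = 1 := by
        rw [hyv]
        simp [Mdl.mul_def, Mdl.one_def, Mdl.act, Mdl.mk.injEq] at v2 ⊢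
      exact w1 hwone
    have hwform : w = Mdl.el ((va - ya) + (va - ya)) ((vb - yb) + (vb - yb)) := by
      rw [hyv]
      simp [Mdl.el, Mdl.mul_def, Mdl.act]
      exact ⟨by ring, by ring⟩
    have hpar : par hk va = par hk ya ∧ par hk vb = par hk yb := by
      have h0 : ∀ x : ZMod (2 ^ k), x + x = 0 → par hk x = 0 := fun x hx => by
        rcases two_torsion hk hx with rfl | rfl
        · exact map_zero _
        · exact par_half hk
      have hh : ∀ x : ZMod (2 ^ k), x + x = half k → par hk x = 0 := fun x hx => par_of_double h3 hx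
      rcases eq_zc_of_sq hk w2 w1 hws.1 hws.2 with e | e | e <;>
        [exact absurd e hwz; skip; skip] <;>
        simp [uc, uc', Mdl.el, hwform] at e
      · exact ⟨sub_eq_zero.mp (by rw [← map_sub]; exact hh _ e.1), sub_eq_zero.mp (by rw [← map_sub]; exact h0 _ e.2)⟩
      · exact ⟨sub_eq_zero.mp (by rw [← map_sub]; exact h0 _ e.1), sub_eq_zero.mp (by rw [← map_sub]; exact hh _ e.2)⟩
    -- `y` and `v` are conjugate in the Sylow group
    obtain ⟨a', ha'⟩ : ∃ a', a' + a' = va - ya := by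
      have : NeZero (2 ^ k) := ⟨by positivity⟩
      have hp : par hk (va - ya) = 0 := by rw [map_sub, hpar.1, sub_self]
      rw [← ZMod.natCast_zmod_val (va - ya), map_natCast, ZMod.natCast_eq_zero_iff] at hp
      obtain ⟨c, hc⟩ := hp
      exact ⟨(c : ZMod (2 ^ k)), by rw [← ZMod.natCast_zmod_val (va - ya), hc]; push_cast; ring⟩
    obtain ⟨b', hb'⟩ : ∃ b', b' + b' = vb - yb := by
      have : NeZero (2 ^ k) := ⟨by positivity⟩
      have hp : par hk (vb - yb) = 0 := by rw [map_sub, hpar.2, sub_self]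
      rw [← ZMod.natCast_zmod_val (vb - yb), map_natCast, ZMod.natCast_eq_zero_iff] at hp
      obtain ⟨c, hc⟩ := hp
      exact ⟨(c : ZMod (2 ^ k)), by rw [← ZMod.natCast_zmod_val (vb - yb), hc]; push_cast; ring⟩
    have hconj : IsConj (⟨ya, yb, false, true⟩ : Mdl (2 ^ k)) ⟨va, vb, false, true⟩ := by
      refine isConj_iff.mpr ⟨Mdl.el a' b', ?_⟩
      simp [Mdl.el, Mdl.mul_def, Mdl.inv_def, Mdl.act]
      exact ⟨by linear_combination ha', by linear_combination hb'⟩
    exact hσ (hyσ.trans ((φ.map_isConj hconj).trans hvz))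
  rcases h with h | h
  · exact main _ (Or.inl rfl) h
  · exact main _ (Or.inr rfl) h

include hG hk hφ hrange in
/-- The fusion theorem. -/
theorem classes : (∀ x y : G, orderOf x = 2 → orderOf y = 2 → IsConj x y) ∨
    (k = 2 ∧ ∃ x y : G, orderOf x = 2 ∧ orderOf y = 2 ∧ ¬ IsConj x y ∧
      ∀ z : G, orderOf z = 2 → IsConj z x ∨ IsConj z y) := by
  have hu := uc_fused hG hk S φ hφ hrange
  have hord : ∀ {m : Mdl (2 ^ k)}, m * m = 1 → m ≠ 1 → orderOf (φ m) = 2 := fun {m} h2 h1 =>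
    orderOf_eq_prime (by rw [pow_two, ← map_mul, h2, map_one]) fun h => h1 (eq_one_of φ hφ _ h)
  have hall : ∀ x : G, orderOf x = 2 → IsConj x (φ (zc k)) ∨ IsConj x (φ Mdl.sg) := by
    intro x hx
    obtain ⟨T, hT⟩ := (IsPGroup.of_card (p := 2) (n := 1) (G := zpowers x)
      (by rw [Nat.card_zpowers, hx, pow_one])).exists_le_sylow
    obtain ⟨g, hg⟩ := MulAction.exists_smul_eq G T S
    have hgx : g * x * g⁻¹ ∈ (S : Subgroup G) := by
      rw [← hg, Sylow.coe_subgroup_smul]; exact ⟨x, hT (mem_zpowers x), rfl⟩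
    obtain ⟨m, hm⟩ := exists_pre S φ hrange hgx
    have hxm : IsConj x (φ m) := hm ▸ isConj_iff.mpr ⟨g, rfl⟩
    have hxx : x * x = 1 := by rw [← pow_two, ← hx, pow_orderOf_eq_one]
    have hm2 : m * m = 1 := hφ (by
      rw [map_mul, hm, map_one, show g * x * g⁻¹ * (g * x * g⁻¹) = g * (x * x) * g⁻¹ by group, hxx, mul_one,
        mul_inv_cancel])
    have hm1 : m ≠ 1 := fun e => by
      rw [e, φ.map_one] at hm
      rw [(conj_eq_one_iff (a := g)).mp hm.symm, orderOf_one] at hx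
      exact absurd hx (by norm_num)
    rcases classify hk hm2 hm1 with (rfl | rfl | rfl) | ⟨r, hr, hrm⟩
    · exact Or.inl hxm
    · exact Or.inl (hxm.trans hu)
    · exact Or.inl (hxm.trans ((φ.map_isConj (uc_conj hk)).symm.trans hu))
    · exact (all_fused hG hk S φ hφ hrange r hr).imp
        (hxm.trans (φ.map_isConj hrm).symm).trans (hxm.trans (φ.map_isConj hrm).symm).trans
  by_cases hσ : IsConj (φ Mdl.sg) (φ (zc k))
  · refine Or.inl fun x y hx hy => ?_
    have h1 : ∀ x, orderOf x = 2 → IsConj x (φ (zc k)) := fun x hx => (hall x hx).elim id fun h => h.trans hσ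
    exact (h1 x hx).trans (h1 y hy).symm
  · refine Or.inr ⟨?_, φ (zc k), φ Mdl.sg, hord (zc_sq hk).1 (zc_sq hk).2,
      hord (reps_sq hk _ (by simp)).1 (reps_sq hk _ (by simp)).2, fun h => hσ h.symm, hall⟩
    by_contra hne
    exact hσ (sg_fused hG hk S φ hφ hrange (by omega))

end CfsgLib.GTwoFusion
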