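import Mathlib
import Cfsg.Agent.Lib.GTwoFusion.Combinatorics
import Cfsg.Agent.Lib.Structure.GTwoInvolution
import Cfsg.Agent.S1059

/-!
A Sylow 2-subgroup of `G₂(q)`, `q` odd, has the model shape; `N` is the 2-part of `q ∓ 1`, divisible by 4.
-/

set_option autoImplicit false
set_option linter.unusedSectionVars false
set_option maxHeartbeats 800000

open Subgroup

namespace CfsgLib.GTwoFusion

open Cfsg.Lie CfsgLib.GTwoInv CfsgLib.ChevStr.ChevCore Matrix
open scoped MatrixGroups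

variable {F : Type*} [Field F] [Fintype F]

local notation "SL2" => SpecialLinearGroup (Fin 2) F

/-- Pairs of matrices with the same determinant. -/
def prs (F : Type*) [Field F] : Subgroup (GL (Fin 2) F × GL (Fin 2) F) :=
  MonoidHom.eqLocus (GeneralLinearGroup.det.comp (MonoidHom.fst _ _)) (GeneralLinearGroup.det.comp (MonoidHom.snd _ _))

/-- The determinant of a pair. -/
def dp (p : prs F) : Fˣ := GeneralLinearGroup.det p.1.1

theorem dp_snd (p : prs F) : GeneralLinearGroup.det p.1.2 = dp p := (p.2).symm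

/-- The special part of a matrix of determinant `d`. -/
def spec (A : GL (Fin 2) F) : SL2 :=
  ⟨dd (((GeneralLinearGroup.det A)⁻¹ : Fˣ) : F) * (A : Matrix (Fin 2) (Fin 2) F), by
    rw [det_mul, dd, det_fin_two]
    simp [← GeneralLinearGroup.val_det_apply]⟩

theorem coe_spec (A : GL (Fin 2) F) :
    (spec A : Matrix (Fin 2) (Fin 2) F) = dd (((GeneralLinearGroup.det A)⁻¹ : Fˣ) : F) * (A : Matrix (Fin 2) (Fin 2) F) := rfl

theorem dd_mul (a b : F) : dd a * dd b = dd (a * b) := by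
  ext i j; fin_cases i <;> fin_cases j <;> simp [dd, Matrix.mul_apply, Fin.sum_univ_two]

theorem spec_mul (A B : GL (Fin 2) F) :
    spec (A * B) = dconj (GeneralLinearGroup.det B)⁻¹ (spec A) * spec B := by
  apply Subtype.ext
  set a := (GeneralLinearGroup.det A)⁻¹ with ha
  set b := (GeneralLinearGroup.det B)⁻¹ with hb
  show dd (((GeneralLinearGroup.det (A * B))⁻¹ : Fˣ) : F) * ((A : Matrix (Fin 2) (Fin 2) F) * B) =
    ((dconj b (spec A) : SL2) : Matrix (Fin 2) (Fin 2) F) * (dd (b : F) * (B : Matrix (Fin 2) (Fin 2) F))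
  rw [← Matrix.mul_assoc (((dconj b (spec A) : SL2) : Matrix (Fin 2) (Fin 2) F)), ← dd_mul_dconj, coe_spec, ← ha,
    ← Matrix.mul_assoc (dd (b : F)), dd_mul, map_mul, mul_inv, ← ha, ← hb, Units.val_mul, mul_comm (b : F) (a : F)]
  simp only [Matrix.mul_assoc]

/-- `theta` as a function. -/
noncomputable def thetaFun (p : prs F) : GL chevG2.Idx F :=
  tor (dp p) (dp p) * psi (spec p.1.1, spec p.1.2)

theorem thetaFun_one : thetaFun (1 : prs F) = 1 := by
  have h : spec (1 : GL (Fin 2) F) = 1 := by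
    apply Subtype.ext
    show dd (((GeneralLinearGroup.det (1 : GL (Fin 2) F))⁻¹ : Fˣ) : F) * (1 : Matrix (Fin 2) (Fin 2) F) = 1
    rw [map_one, inv_one, Matrix.mul_one]
    ext i j; fin_cases i <;> fin_cases j <;> simp [dd]
  have hd : dp (1 : prs F) = 1 := map_one GeneralLinearGroup.det
  unfold thetaFun
  rw [hd, show (1 : prs F).1.1 = 1 from rfl, show (1 : prs F).1.2 = 1 from rfl, h, tor_one, one_mul,
    ← Prod.one_eq_mk, map_one]

theorem thetaFun_mul (p q : prs F) : thetaFun (p * q) = thetaFun p * thetaFun q := by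
  have hd : dp (p * q) = dp p * dp q := map_mul GeneralLinearGroup.det p.1.1 q.1.1
  have h := torus_conj_psi (dp q)⁻¹ (dp q)⁻¹ (spec p.1.1) (spec p.1.2)
  rw [chr7, chr11, ← tor_inv, inv_inv (tor (dp q) (dp q)),
    show (dp q)⁻¹ ^ 2 * ((dp q)⁻¹)⁻¹ = (dp q)⁻¹ by rw [inv_inv, pow_two, mul_assoc, inv_mul_cancel, mul_one]] at h
  unfold thetaFun
  rw [hd, ← tor_mul, show (p * q).1.1 = p.1.1 * q.1.1 from rfl, show (p * q).1.2 = p.1.2 * q.1.2 from rfl,
    spec_mul, spec_mul, dp_snd q, show GeneralLinearGroup.det q.1.1 = dp q from rfl, ← Prod.mk_mul_mk, map_mul, ← h]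
  group

/-- The map of equal-determinant pairs to the centraliser of an involution. -/
noncomputable def theta : prs F →* GL chevG2.Idx F where
  toFun := thetaFun
  map_one' := thetaFun_one
  map_mul' := thetaFun_mul

theorem theta_mem (p : prs F) : theta p ∈ chevG2.group F :=
  mul_mem (torus_mem_group _) (mul_mem (phiA_mem_group _) (phiH_mem_group _))

theorem theta_scalar (p : prs F) (c : Fˣ)
    (h1 : (p.1.1 : Matrix (Fin 2) (Fin 2) F) = (c : F) • (1 : Matrix (Fin 2) (Fin 2) F))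
    (h2 : (p.1.2 : Matrix (Fin 2) (Fin 2) F) = (c : F) • (1 : Matrix (Fin 2) (Fin 2) F)) : theta p = 1 := by
  have hd : dp p = c * c := Units.ext (by
    show Matrix.det (p.1.1 : Matrix (Fin 2) (Fin 2) F) = _
    rw [h1, det_smul, det_one, mul_one, Fintype.card_fin, pow_two, Units.val_mul])
  have hs : ∀ A : GL (Fin 2) F, GeneralLinearGroup.det A = c * c →
      (A : Matrix (Fin 2) (Fin 2) F) = (c : F) • (1 : Matrix (Fin 2) (Fin 2) F) → spec A = slD c⁻¹ := fun A hA hm => by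
    apply Subtype.ext
    rw [coe_spec, hm, coe_slD, hA]
    ext i j; fin_cases i <;> fin_cases j <;> simp [dd, Matrix.mul_apply]
  show tor (dp p) (dp p) * psi (spec p.1.1, spec p.1.2) = 1
  rw [hs _ hd h1, hs _ (by rw [dp_snd, hd]) h2, psi_apply, phiA_diag, phiH_diag, hd, tor_mul, tor_mul]
  convert tor_one (F := F) using 2 <;> simp

theorem theta_eq (p q : prs F) (c : Fˣ)
    (h1 : (p.1.1 : Matrix (Fin 2) (Fin 2) F) = (c : F) • (q.1.1 : Matrix (Fin 2) (Fin 2) F))
    (h2 : (p.1.2 : Matrix (Fin 2) (Fin 2) F) = (c : F) • (q.1.2 : Matrix (Fin 2) (Fin 2) F)) :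
    theta p = theta q := by
  rw [← mul_inv_eq_one, ← map_inv, ← map_mul]
  refine theta_scalar _ c ?_ ?_
  · show (p.1.1 : Matrix (Fin 2) (Fin 2) F) * ((q.1.1⁻¹ : GL (Fin 2) F) : Matrix (Fin 2) (Fin 2) F) = _
    rw [h1, Matrix.smul_mul, ← GeneralLinearGroup.coe_mul, mul_inv_cancel, GeneralLinearGroup.coe_one]
  · show (p.1.2 : Matrix (Fin 2) (Fin 2) F) * ((q.1.2⁻¹ : GL (Fin 2) F) : Matrix (Fin 2) (Fin 2) F) = _
    rw [h2, Matrix.smul_mul, ← GeneralLinearGroup.coe_mul, mul_inv_cancel, GeneralLinearGroup.coe_one]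

/-- A pair from two matrices. -/
noncomputable def mkP (A B : Matrix (Fin 2) (Fin 2) F) (hA : A.det ≠ 0) (h : B.det = A.det) : prs F :=
  ⟨(GeneralLinearGroup.mkOfDetNeZero A hA, GeneralLinearGroup.mkOfDetNeZero B (h ▸ hA)), Units.ext h.symm⟩

@[simp] theorem mkP_fst (A B : Matrix (Fin 2) (Fin 2) F) (hA : A.det ≠ 0) (h : B.det = A.det) :
    ((mkP A B hA h).1.1 : Matrix (Fin 2) (Fin 2) F) = A := rfl

@[simp] theorem mkP_snd (A B : Matrix (Fin 2) (Fin 2) F) (hA : A.det ≠ 0) (h : B.det = A.det) :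
    ((mkP A B hA h).1.2 : Matrix (Fin 2) (Fin 2) F) = B := rfl

@[simp] theorem coe_fst_mul (p q : prs F) : ((p * q).1.1 : Matrix (Fin 2) (Fin 2) F) = (p.1.1 : Matrix (Fin 2) (Fin 2) F) * q.1.1 := rfl

@[simp] theorem coe_snd_mul (p q : prs F) : ((p * q).1.2 : Matrix (Fin 2) (Fin 2) F) = (p.1.2 : Matrix (Fin 2) (Fin 2) F) * q.1.2 := rfl

@[simp] theorem coe_fst_one : ((1 : prs F).1.1 : Matrix (Fin 2) (Fin 2) F) = 1 := rfl

@[simp] theorem coe_snd_one : ((1 : prs F).1.2 : Matrix (Fin 2) (Fin 2) F) = 1 := rfl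

theorem coe_pow (p : prs F) (n : ℕ) : ((p ^ n).1.1 : Matrix (Fin 2) (Fin 2) F) = (p.1.1 : Matrix (Fin 2) (Fin 2) F) ^ n ∧
    ((p ^ n).1.2 : Matrix (Fin 2) (Fin 2) F) = (p.1.2 : Matrix (Fin 2) (Fin 2) F) ^ n := ⟨rfl, rfl⟩

theorem theta_neg_one : theta (mkP (1 : Matrix (Fin 2) (Fin 2) F) (-1) (by simp) (by simp [det_fin_two])) = t0 ∧
    theta (mkP (-1 : Matrix (Fin 2) (Fin 2) F) 1 (by simp [det_fin_two]) (by simp [det_fin_two])) = t0 := by
  have h1 : ∀ (p : prs F), dp p = 1 → theta p = psi (spec p.1.1, spec p.1.2) := fun p hp => by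
    show tor (dp p) (dp p) * _ = _
    rw [hp, tor_one, one_mul]
  have hsp : ∀ (A : GL (Fin 2) F) (x : SL2), GeneralLinearGroup.det A = 1 →
      (A : Matrix (Fin 2) (Fin 2) F) = x → spec A = x := fun A x hA hm => by
    apply Subtype.ext
    rw [coe_spec, hA, hm, inv_one, Units.val_one, show dd (1 : F) = 1 by ext i j; fin_cases i <;> fin_cases j <;> simp [dd],
      Matrix.one_mul]
  constructor
  · rw [h1 _ (Units.ext (by simp [dp, mkP])), hsp _ 1 (Units.ext (by simp [mkP])) (by simp [mkP]),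
      hsp _ (-1) (Units.ext (by simp [mkP, det_fin_two])) (by simp [mkP]), psi_apply, map_one, phiH_neg_one, one_mul]
  · rw [h1 _ (Units.ext (by simp [dp, mkP, det_fin_two])), hsp _ (-1) (Units.ext (by simp [mkP, det_fin_two])) (by simp [mkP]),
      hsp _ 1 (Units.ext (by simp [mkP])) (by simp [mkP]), psi_apply, map_one, phiA_neg_one, mul_one]

/-- `theta` into the group. -/
noncomputable def thetaG : prs F →* ↥(chevG2.group F) := theta.codRestrict _ theta_mem

/-- A homomorphism which does not kill the central involution is injective. -/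
theorem injective_of_zc {H : Type*} [Group H] {k : ℕ} (hk : 2 ≤ k) (φ : Mdl (2 ^ k) →* H) (h : φ (zc k) ≠ 1) :
    Function.Injective φ := by
  have : NeZero (2 ^ k) := ⟨by positivity⟩
  refine (injective_iff_map_eq_one φ).mpr fun m hm => by_contra fun hne => ?_
  -- a non-trivial element of the kernel in the homocyclic subgroup
  obtain ⟨v, hv, hv1, hvs, hvt⟩ : ∃ v, φ v = 1 ∧ v ≠ 1 ∧ v.s = false ∧ v.t = false := by
    by_cases hst : m.s = false ∧ m.t = false
    · exact ⟨m, hm, hne, hst⟩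
    refine ⟨m * Mdl.el 1 0 * m⁻¹ * (Mdl.el 1 0)⁻¹, by simp [hm], ?_, ?_, ?_⟩
    · intro he
      have h1 : (1 : ZMod (2 ^ k)) ≠ 0 := by
        haveI : Fact (1 < 2 ^ k) := ⟨Nat.one_lt_two_pow (by omega)⟩
        exact one_ne_zero
      have h2 : (1 : ZMod (2 ^ k)) + 1 ≠ 0 := by
        rw [show (1 : ZMod (2 ^ k)) + 1 = ((2 : ℕ) : ZMod (2 ^ k)) by norm_num, Ne, ZMod.natCast_eq_zero_iff]
        refine Nat.not_dvd_of_pos_of_lt (by norm_num) ?_
        calc 2 < 2 ^ 2 := by norm_num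
          _ ≤ 2 ^ k := Nat.pow_le_pow_right (by norm_num) hk
      rw [mul_inv_eq_one, mul_inv_eq_iff_eq_mul] at he
      obtain ⟨a, b, s, t⟩ := m
      cases s <;> cases t <;> simp [Mdl.el, Mdl.mul_def, Mdl.act] at hst he
      · exact h2 (by linear_combination -he)
      all_goals first
        | exact h1 (by linear_combination he) | exact h1 (by linear_combination -he)
        | exact h1 (by linear_combination he.1) | exact h1 (by linear_combination -he.1)
        | exact h1 (by linear_combination he.2) | exact h1 (by linear_combination -he.2)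
    all_goals
      obtain ⟨a, b, s, t⟩ := m
      cases s <;> cases t <;> simp [Mdl.el, Mdl.mul_def, Mdl.inv_def]
  -- an involution there
  obtain ⟨j, hj⟩ : ∃ j, Nat.card (Mdl (2 ^ k)) = 2 ^ j := ⟨2 * k + 2, by rw [Mdl.card_eq]; ring⟩
  obtain ⟨i, -, hi⟩ := (Nat.dvd_prime_pow Nat.prime_two).mp (hj ▸ orderOf_dvd_natCard v)
  obtain ⟨i, rfl⟩ : ∃ i', i = i' + 1 := ⟨i - 1, by
    rcases i with _ | i
    · exact absurd (orderOf_eq_one_iff.mp (by rw [hi, pow_zero])) hv1
    · rfl⟩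
  set w := v ^ 2 ^ i with hw
  have hw2 : w * w = 1 := by rw [hw, ← pow_add, ← two_mul, ← pow_succ', ← hi, pow_orderOf_eq_one]
  have hw1 : w ≠ 1 := pow_ne_one_of_lt_orderOf (by positivity) (by rw [hi]; exact Nat.pow_lt_pow_right (by norm_num) (by omega))
  have hwA : ∀ n : ℕ, (v ^ n).s = false ∧ (v ^ n).t = false := fun n => by
    induction n with
    | zero => simp [Mdl.one_def]
    | succ n ih => simp [pow_succ, Mdl.mul_def, ih.1, ih.2, hvs, hvt]
  have hwk : φ w = 1 := by rw [hw, map_pow, hv, one_pow]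
  have hprod : uc k * uc' k = zc k := by simp [uc, uc', zc, Mdl.el, Mdl.mul_def, Mdl.act]
  have hconj : Mdl.sg * uc k * Mdl.sg = uc' k ∧ Mdl.sg * uc' k * Mdl.sg = uc k := by
    constructor <;> simp [uc, uc', Mdl.el, Mdl.sg, Mdl.mul_def, Mdl.act]
  have hss : φ Mdl.sg * φ Mdl.sg = 1 := by
    rw [← map_mul, show (Mdl.sg : Mdl (2 ^ k)) * Mdl.sg = 1 by simp [Mdl.sg, Mdl.mul_def, Mdl.one_def, Mdl.act], map_one]
  rcases eq_zc_of_sq hk hw2 hw1 (hwA _).1 (hwA _).2 with e | e | e <;> rw [e] at hwk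
  · exact h hwk
  · refine h ?_
    rw [← hprod, map_mul, hwk, one_mul, ← hconj.1, map_mul, map_mul, hwk, mul_one, hss]
  · refine h ?_
    rw [← hprod, map_mul, hwk, mul_one, ← hconj.2, map_mul, map_mul, hwk, mul_one, hss]

/-- The model embeds once the generators are given. -/
theorem exists_model_of (hF : Odd (Fintype.card F)) {k : ℕ} (hk : 2 ≤ k) (f σ ι : prs F)
    (hσ : theta (σ * σ) = 1) (hι : theta (ι * ι) = 1) (hc : theta (σ * ι) = theta (ι * σ))
    (hN : theta (f ^ 2 ^ k) = 1) (hff : theta (f * (σ * f * σ)) = theta ((σ * f * σ) * f))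
    (hιf : theta (ι * f * ι * f) = 1) (hz : theta (f ^ 2 ^ (k - 1) * (σ * f * σ) ^ 2 ^ (k - 1)) = t0) :
    ∃ φ : Mdl (2 ^ k) →* ↥(chevG2.group F), Function.Injective φ := by
  have : NeZero (2 ^ k) := ⟨by positivity⟩
  have up : ∀ {a b : prs F}, theta a = theta b → thetaG a = thetaG b := fun {a b} h => Subtype.ext h
  have up1 : ∀ {a : prs F}, theta a = 1 → thetaG a = 1 := fun {a} h => Subtype.ext h
  have e1 := up1 hσ
  have e2 := up1 hι
  have e3 := up hc
  have e4 := up1 hN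
  have e5 := up hff
  have e6 := up1 hιf
  simp only [map_mul, map_pow] at e1 e2 e3 e4 e5 e6
  obtain ⟨φ, h10, h01, -, -⟩ := exists_hom (thetaG f) (thetaG σ * thetaG f * thetaG σ) (thetaG σ) (thetaG ι) e4 e5 e1 e2 e3
    rfl (eq_inv_of_mul_eq_one_left e6)
  refine ⟨φ, injective_of_zc hk φ fun h => t0_ne_one hF ?_⟩
  have e : ∀ n : ℕ, (Mdl.el 1 0 : Mdl (2 ^ k)) ^ n = Mdl.el (n : ZMod (2 ^ k)) 0 ∧
      (Mdl.el 0 1 : Mdl (2 ^ k)) ^ n = Mdl.el 0 (n : ZMod (2 ^ k)) := fun n => by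
    induction n with
    | zero => simp [Mdl.el, Mdl.one_def]
    | succ n ih => rw [pow_succ, pow_succ, ih.1, ih.2]; simp [Mdl.el, Mdl.mul_def, Mdl.act]
  have hzc : zc k = (Mdl.el 1 0 : Mdl (2 ^ k)) ^ 2 ^ (k - 1) * Mdl.el 0 1 ^ 2 ^ (k - 1) := by
    rw [(e _).1, (e _).2]
    simp [zc, half, Mdl.el, Mdl.mul_def, Mdl.act]
  rw [hzc, map_mul, map_pow, map_pow, h10, h01, ← map_mul, ← map_mul, ← map_pow, ← map_pow, ← map_mul] at h
  rw [← hz]
  exact congrArg Subtype.val h

/-- A primitive root of unity of two-power order `2 ^ k`, `2 ^ k` the 2-part of `q - 1`. -/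
theorem exists_split_root (hF : Fintype.card F % 4 = 1) :
    ∃ k, 2 ≤ k ∧ (∃ m, Odd m ∧ Fintype.card F = 2 ^ k * m + 1) ∧
      ∃ ζ : Fˣ, ζ ^ 2 ^ (k - 1) = -1 := by
  classical
  have hq : 2 ≤ Fintype.card F := Fintype.one_lt_card
  obtain ⟨k, m, hm, hkm⟩ := Nat.exists_eq_two_pow_mul_odd (n := Fintype.card F - 1) (by omega)
  have hk : 2 ≤ k := by
    by_contra hh
    obtain ⟨c, rfl⟩ := hm
    interval_cases k <;> omega
  refine ⟨k, hk, ⟨m, hm, by omega⟩, ?_⟩
  obtain ⟨g, hg⟩ := IsCyclic.exists_generator (α := Fˣ)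
  have ho : orderOf g = 2 ^ k * m := by
    rw [orderOf_eq_card_of_forall_mem_zpowers hg, Nat.card_eq_fintype_card, Fintype.card_units, hkm]
  refine ⟨g ^ m, ?_⟩
  set x := (g ^ m) ^ 2 ^ (k - 1)
  have h2 : x ^ 2 = 1 := by
    show ((g ^ m) ^ 2 ^ (k - 1)) ^ 2 = 1
    rw [← pow_mul, ← pow_mul, ← pow_succ, show k - 1 + 1 = k by omega, mul_comm, ← ho, pow_orderOf_eq_one]
  have h1 : x ≠ 1 := by
    show (g ^ m) ^ 2 ^ (k - 1) ≠ 1
    rw [← pow_mul]
    refine pow_ne_one_of_lt_orderOf (Nat.mul_ne_zero hm.pos.ne' (by positivity)) ?_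
    rw [ho, mul_comm]
    exact Nat.mul_lt_mul_of_pos_right (Nat.pow_lt_pow_right (by norm_num) (by omega)) hm.pos
  rcases sq_eq_one_iff.mp (show ((x : Fˣ) : F) ^ 2 = 1 by rw [← Units.val_pow_eq_pow_val, h2, Units.val_one]) with h | h
  · exact absurd (Units.ext h) h1
  · exact Units.ext (by rw [h, Units.val_neg, Units.val_one])

/-- The split case. -/
theorem model_split (hF : Fintype.card F % 4 = 1) :
    ∃ k, 2 ≤ k ∧ (∃ m, Odd m ∧ Fintype.card F = 2 ^ k * m + 1) ∧
      ∃ φ : Mdl (2 ^ k) →* ↥(chevG2.group F), Function.Injective φ := by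
  obtain ⟨k, hk, hm, ζ, hζ⟩ := exists_split_root hF
  have hodd : Odd (Fintype.card F) := Nat.odd_iff.mpr (by omega)
  refine ⟨k, hk, hm, ?_⟩
  set D : Matrix (Fin 2) (Fin 2) F := !![(ζ : F), 0; 0, 1] with hD
  set D' : Matrix (Fin 2) (Fin 2) F := !![1, 0; 0, (ζ : F)] with hD'
  set P : Matrix (Fin 2) (Fin 2) F := !![0, 1; 1, 0] with hP
  set J : Matrix (Fin 2) (Fin 2) F := !![1, 0; 0, -1] with hJ
  set W : Matrix (Fin 2) (Fin 2) F := !![0, 1; -1, 0] with hW
  have hDdet : D.det ≠ 0 := by simp [hD, det_fin_two]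
  set f := mkP D D hDdet rfl
  set σ := mkP P J (by simp [hP, det_fin_two]) (by simp [hP, hJ, det_fin_two])
  set ι := mkP W W (by simp [hW, det_fin_two]) rfl
  have hPD : P * D * P = D' ∧ J * D * J = D := by
    constructor <;> (ext i j; fin_cases i <;> fin_cases j <;> simp [hP, hJ, hD, hD', Matrix.mul_apply, Fin.sum_univ_two])
  have hdiag : ∀ (a b : F) (n : ℕ), (!![a, 0; 0, b] : Matrix (Fin 2) (Fin 2) F) ^ n = !![a ^ n, 0; 0, b ^ n] := fun a b n => by
    induction n with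
    | zero => ext i j; fin_cases i <;> fin_cases j <;> simp
    | succ n ih => rw [pow_succ, ih]; ext i j; fin_cases i <;> fin_cases j <;> simp [Matrix.mul_apply, Fin.sum_univ_two, pow_succ]
  have hh : (ζ : F) ^ 2 ^ (k - 1) = -1 := by rw [← Units.val_pow_eq_pow_val, hζ, Units.val_neg, Units.val_one]
  have hN : (ζ : F) ^ 2 ^ k = 1 := by
    rw [show k = k - 1 + 1 by omega, pow_succ, pow_mul, hh]; norm_num
  refine exists_model_of hodd hk f σ ι ?_ ?_ ?_ ?_ ?_ ?_ ?_
  · exact theta_scalar _ 1 (by ext i j; fin_cases i <;> fin_cases j <;> simp [σ, hP, Matrix.mul_apply, Fin.sum_univ_two])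
      (by ext i j; fin_cases i <;> fin_cases j <;> simp [σ, hJ, Matrix.mul_apply, Fin.sum_univ_two])
  · exact theta_scalar _ (-1) (by ext i j; fin_cases i <;> fin_cases j <;> simp [ι, hW, Matrix.mul_apply, Fin.sum_univ_two])
      (by ext i j; fin_cases i <;> fin_cases j <;> simp [ι, hW, Matrix.mul_apply, Fin.sum_univ_two])
  · exact theta_eq _ _ (-1) (by ext i j; fin_cases i <;> fin_cases j <;> simp [σ, ι, hP, hW, Matrix.mul_apply, Fin.sum_univ_two])
      (by ext i j; fin_cases i <;> fin_cases j <;> simp [σ, ι, hJ, hW, Matrix.mul_apply, Fin.sum_univ_two])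
  · refine theta_scalar _ 1 ?_ ?_
    · rw [(coe_pow f _).1, show (f.1.1 : Matrix (Fin 2) (Fin 2) F) = D from rfl, hD, hdiag, hN, one_pow]
      ext i j; fin_cases i <;> fin_cases j <;> simp
    · rw [(coe_pow f _).2, show (f.1.2 : Matrix (Fin 2) (Fin 2) F) = D from rfl, hD, hdiag, hN, one_pow]
      ext i j; fin_cases i <;> fin_cases j <;> simp
  · refine theta_eq _ _ 1 ?_ ?_ <;> simp only [coe_fst_mul, coe_snd_mul, f, σ, mkP_fst, mkP_snd, hPD.1, hPD.2, Units.val_one, one_smul]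
    · ext i j; fin_cases i <;> fin_cases j <;> simp [hD, hD', Matrix.mul_apply, Fin.sum_univ_two]
  · refine theta_scalar _ (-ζ) ?_ ?_ <;>
      (ext i j; fin_cases i <;> fin_cases j <;> simp [ι, f, hW, hD, Matrix.mul_apply, Fin.sum_univ_two])
  · rw [← theta_neg_one.2]
    refine congrArg theta (Subtype.ext (Prod.ext (Units.ext ?_) (Units.ext ?_))) <;>
      simp only [coe_fst_mul, coe_snd_mul, (coe_pow _ _).1, (coe_pow _ _).2, f, σ, mkP_fst, mkP_snd, hPD.1, hPD.2] <;>
      simp only [hD, hD', hdiag, hh, one_pow] <;>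
      (ext i j; fin_cases i <;> fin_cases j <;> simp [Matrix.mul_apply, Fin.sum_univ_two])

/-- A matrix `g` of the non-split torus with `g ^ 2 ^ k = -1`, `2 ^ k` the 2-part of `q + 1`. -/
theorem exists_rot (hF : Fintype.card F % 4 = 3) :
    ∃ k, 2 ≤ k ∧ (∃ m, Odd m ∧ Fintype.card F + 1 = 2 ^ k * m) ∧
      ∃ a b : F, a * a + b * b = -1 ∧ (!![a, -b; b, a] : Matrix (Fin 2) (Fin 2) F) ^ 2 ^ k = -1 := by
  classical
  obtain ⟨k, m, hm, hkm⟩ := Nat.exists_eq_two_pow_mul_odd (n := Fintype.card F + 1) (by omega)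
  have hk : 2 ≤ k := by
    by_contra hh
    obtain ⟨c, rfl⟩ := hm
    interval_cases k <;> omega
  refine ⟨k, hk, ⟨m, hm, hkm⟩, ?_⟩
  haveI : NeZero (ringChar F) := ⟨CharP.char_ne_zero_of_finite F (ringChar F)⟩
  obtain ⟨a', b', hab'⟩ := CharP.sq_add_sq F (ringChar F) (-1)
  obtain ⟨a, ha⟩ : ∃ a : F, a = (a' : F) := ⟨_, rfl⟩
  obtain ⟨b, hb⟩ : ∃ b : F, b = (b' : F) := ⟨_, rfl⟩
  have hab : a * a + b * b = (-1 : F) := by rw [← pow_two, ← pow_two, ha, hb, hab']; norm_num
  set I : Matrix (Fin 2) (Fin 2) F := !![0, -1; 1, 0] with hI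
  set R : F → F → Matrix (Fin 2) (Fin 2) F := fun a b => !![a, -b; b, a] with hR
  have hRI : ∀ a b : F, R a b = a • (1 : Matrix (Fin 2) (Fin 2) F) + b • I := fun a b => by
    ext i j; fin_cases i <;> fin_cases j <;> simp [hR, hI]
  have hRR : ∀ a b c d : F, R a b * R c d = R (a * c - b * d) (a * d + b * c) := fun a b c d => by
    ext i j; fin_cases i <;> fin_cases j <;> simp [hR, Matrix.mul_apply, Fin.sum_univ_two] <;> ring
  -- powers stay rotations
  have hpow : ∀ n : ℕ, ∃ c d : F, R a b ^ n = R c d ∧ c * c + d * d = (-1) ^ n := fun n => by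
    induction n with
    | zero => exact ⟨1, 0, by ext i j; fin_cases i <;> fin_cases j <;> simp [hR], by simp⟩
    | succ n ih =>
      obtain ⟨c, d, he, hn⟩ := ih
      exact ⟨_, _, by rw [pow_succ, he, hRR], by rw [pow_succ, ← hn]; linear_combination (c * c + d * d) * hab⟩
  obtain ⟨c, d, hcd, hn⟩ := hpow m
  refine ⟨c, d, by rw [hn, hm.neg_one_pow], ?_⟩
  show R c d ^ 2 ^ k = -1
  rw [← hcd, ← pow_mul, mul_comm, ← hkm, pow_succ]
  -- the Frobenius
  set p := ringChar F with hp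
  haveI : CharP F p := ringChar.charP F
  obtain ⟨e, hpp, hcard⟩ := FiniteField.card F p
  haveI : Fact p.Prime := ⟨hpp⟩
  have hIq : I ^ Fintype.card F = -I := by
    have hII : I * I = -1 := by ext i j; fin_cases i <;> fin_cases j <;> simp [hI, Matrix.mul_apply, Fin.sum_univ_two]
    obtain ⟨c, hc⟩ : ∃ c, Fintype.card F = 4 * c + 3 := ⟨Fintype.card F / 4, by omega⟩
    rw [hc, pow_add, pow_mul, show I ^ 4 = (I * I) * (I * I) by noncomm_ring, hII, neg_one_mul, neg_neg, one_pow, one_mul,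
      show I ^ 3 = I * I * I by noncomm_ring, hII, neg_one_mul]
  have hfrob : R a b ^ Fintype.card F = R a (-b) := by
    rw [hRI, hRI, hcard, add_pow_char_pow_of_commute, ← hcard, smul_pow, smul_pow, one_pow, hIq, FiniteField.pow_card,
      FiniteField.pow_card, smul_neg, neg_smul]
    exact ((Commute.one_left I).smul_left a).smul_right b
  rw [hfrob, hRR]
  ext i j; fin_cases i <;> fin_cases j <;> simp [hR] <;> first | linear_combination hab | linear_combination -hab | ring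

/-- The non-split case. -/
theorem model_nonsplit (hF : Fintype.card F % 4 = 3) :
    ∃ k, 2 ≤ k ∧ (∃ m, Odd m ∧ Fintype.card F + 1 = 2 ^ k * m) ∧
      ∃ φ : Mdl (2 ^ k) →* ↥(chevG2.group F), Function.Injective φ := by
  obtain ⟨k, hk, hm, a, b, hab, hg⟩ := exists_rot hF
  have hodd : Odd (Fintype.card F) := Nat.odd_iff.mpr (by omega)
  refine ⟨k, hk, hm, ?_⟩
  set g : Matrix (Fin 2) (Fin 2) F := !![a, -b; b, a] with hg'
  set I : Matrix (Fin 2) (Fin 2) F := !![0, -1; 1, 0] with hI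
  set j : Matrix (Fin 2) (Fin 2) F := !![1, 0; 0, -1] with hj
  have hgd : g.det = -1 := by simp [hg', det_fin_two]; linear_combination hab
  have hjd : j.det = -1 := by simp [hj, det_fin_two]
  have hId : I.det = 1 := by simp [hI, det_fin_two]
  have hII : I * I = -1 := by ext x y; fin_cases x <;> fin_cases y <;> simp [hI, Matrix.mul_apply, Fin.sum_univ_two]
  have hgI : g * I = I * g := by ext x y; fin_cases x <;> fin_cases y <;> simp [hg', hI, Matrix.mul_apply, Fin.sum_univ_two]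
  have hjI : I * j = -(j * I) := by ext x y; fin_cases x <;> fin_cases y <;> simp [hj, hI, Matrix.mul_apply, Fin.sum_univ_two]
  have hjg : j * g * (j * g) = -1 := by
    ext x y; fin_cases x <;> fin_cases y <;> simp [hj, hg', Matrix.mul_apply, Fin.sum_univ_two] <;>
      first | linear_combination hab | linear_combination -hab | linear_combination (0 : F) * hab
  have hIgI : I * g * I = -g := by rw [← hgI, Matrix.mul_assoc, hII, Matrix.mul_neg, Matrix.mul_one]
  set f := mkP g g (by rw [hgd]; norm_num) rfl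
  set σ := mkP (j * g) I (by rw [det_mul, hjd, hgd]; norm_num) (by rw [hId, det_mul, hjd, hgd]; norm_num)
  set ι := mkP (j * g * I) (j * g) (by rw [det_mul, det_mul, hjd, hgd, hId]; norm_num)
    (by rw [det_mul, det_mul, det_mul, hjd, hgd, hId]; norm_num)
  have hP : g * (j * g * g * (j * g)) = 1 ∧ (j * g * g * (j * g)) * g = 1 := by
    constructor <;>
      (ext x y; fin_cases x <;> fin_cases y <;> simp [hj, hg', Matrix.mul_apply, Fin.sum_univ_two] <;>
        first | linear_combination (a * a + b * b - 1) * hab | linear_combination (0 : F) * hab)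
  have hh : g ^ 2 ^ k = -1 := hg
  have hdbl : 2 ^ (k - 1) + 2 ^ (k - 1) = 2 ^ k := by
    conv_rhs => rw [show k = k - 1 + 1 by omega, pow_succ]
    ring
  have he : Even (2 ^ (k - 1)) := (even_two).pow_of_ne_zero (by omega)
  refine exists_model_of hodd hk f σ ι ?_ ?_ ?_ ?_ ?_ ?_ ?_
  · exact theta_scalar _ (-1) (by simp [σ, hjg]) (by simp [σ, hII])
  · refine theta_scalar _ (-1) ?_ (by simp [ι, hjg])
    simp only [coe_fst_mul, ι, mkP_fst]
    rw [show j * g * I * (j * g * I) = j * g * (I * j) * (g * I) by simp only [Matrix.mul_assoc], hjI, hgI,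
      Matrix.mul_neg, Matrix.neg_mul, show j * g * (j * I) * (I * g) = j * g * j * (I * I) * g by simp only [Matrix.mul_assoc],
      hII, Matrix.mul_neg, Matrix.mul_one, Matrix.neg_mul, neg_neg, Matrix.mul_assoc (j * g) j g, hjg]
    simp
  · refine theta_eq _ _ (-1) ?_ ?_ <;> simp only [coe_fst_mul, coe_snd_mul, σ, ι, mkP_fst, mkP_snd]
    · rw [show j * g * I * (j * g) = j * g * (I * j) * g by simp only [Matrix.mul_assoc], hjI,
        Matrix.mul_neg, Matrix.neg_mul, show j * g * (j * I) * g = j * g * j * (I * g) by simp only [Matrix.mul_assoc], ← hgI]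
      simp [Matrix.mul_assoc]
    · rw [show I * (j * g) = (I * j) * g by simp only [Matrix.mul_assoc], hjI, Matrix.neg_mul,
        Matrix.mul_assoc j I g, ← hgI, ← Matrix.mul_assoc]
      simp
  · exact theta_scalar _ (-1) (by simp [(coe_pow f _).1, f, hh]) (by simp [(coe_pow f _).2, f, hh])
  · refine theta_eq _ _ 1 ?_ ?_ <;> simp only [coe_fst_mul, coe_snd_mul, f, σ, mkP_fst, mkP_snd, Units.val_one, one_smul]
    · rw [hP.1, hP.2]
    · rw [hIgI, Matrix.mul_neg, Matrix.neg_mul]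
  · refine theta_scalar _ 1 ?_ ?_ <;> simp only [coe_fst_mul, coe_snd_mul, f, ι, mkP_fst, mkP_snd, Units.val_one, one_smul]
    · rw [show j * g * I * g * (j * g * I) * g = j * g * (I * g) * j * g * (I * g) by simp only [Matrix.mul_assoc]]
      ext x y; fin_cases x <;> fin_cases y <;> simp [hj, hg', hI, Matrix.mul_apply, Fin.sum_univ_two] <;>
        first | linear_combination (a * a + b * b - 1) * hab | linear_combination (0 : F) * hab
    · ext x y; fin_cases x <;> fin_cases y <;> simp [hj, hg', Matrix.mul_apply, Fin.sum_univ_two] <;>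
        first | linear_combination (a * a + b * b - 1) * hab | linear_combination (0 : F) * hab
  · rw [← theta_neg_one.1]
    refine congrArg theta (Subtype.ext (Prod.ext (Units.ext ?_) (Units.ext ?_))) <;>
      simp only [coe_fst_mul, coe_snd_mul, (coe_pow _ _).1, (coe_pow _ _).2, f, σ, mkP_fst, mkP_snd]
    · rw [← (show Commute g (j * g * g * (j * g)) from hP.1.trans hP.2.symm).mul_pow, hP.1, one_pow]
    · rw [hIgI, he.neg_pow, ← pow_add, hdbl, hh]

/-- Any Sylow 2-subgroup of `G₂(q)`, `q` odd, has the model shape. -/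
theorem exists_sylow_iso (hF : Odd (Fintype.card F)) (P : Sylow 2 ↥(chevG2.group F)) :
    ∃ k, 2 ≤ k ∧ Nonempty (Mdl (2 ^ k) ≃* ↥(P : Subgroup ↥(chevG2.group F))) := by
  classical
  set q := Fintype.card F with hq
  have hq2 : 2 ≤ q := Fintype.one_lt_card
  obtain ⟨r, hr⟩ := hF
  obtain ⟨k, hk, m', hm', hqm, φ, hφ⟩ : ∃ k, 2 ≤ k ∧ ∃ m', Odd m' ∧ q ^ 2 - 1 = 2 ^ (k + 1) * m' ∧
      ∃ φ : Mdl (2 ^ k) →* ↥(chevG2.group F), Function.Injective φ := by
    rcases (show q % 4 = 1 ∨ q % 4 = 3 by omega) with h | h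
    · obtain ⟨k, hk, ⟨m, hm, hqm⟩, hφ⟩ := model_split (F := F) h
      obtain ⟨n, hn⟩ : ∃ n, 2 ^ k * m = 4 * n := by
        obtain ⟨j, rfl⟩ : ∃ j, k = j + 2 := ⟨k - 2, by omega⟩
        exact ⟨2 ^ j * m, by ring⟩
      refine ⟨k, hk, m * (2 * n + 1), hm.mul ⟨n, rfl⟩, ?_, hφ⟩
      rw [show q = 2 ^ k * m + 1 from hqm]
      refine Nat.sub_eq_of_eq_add ?_
      rw [show (2 ^ k * m + 1) ^ 2 = (2 ^ k * m) * (2 ^ k * m + 2) + 1 by ring]
      congr 1
      nth_rewrite 2 [hn]
      ring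
    · obtain ⟨k, hk, ⟨m, hm, hqm⟩, hφ⟩ := model_nonsplit (F := F) h
      obtain ⟨n, hn⟩ : ∃ n, q = 4 * n + 3 := ⟨q / 4, by omega⟩
      refine ⟨k, hk, m * (2 * n + 1), hm.mul ⟨n, rfl⟩, ?_, hφ⟩
      refine Nat.sub_eq_of_eq_add ?_
      rw [show 2 ^ (k + 1) * (m * (2 * n + 1)) = (2 ^ k * m) * (2 * (2 * n + 1)) by ring,
        show 2 ^ k * m = q + 1 from hqm.symm, hn]
      ring
  have : NeZero (2 ^ k) := ⟨by positivity⟩
  have hcard := Cfsg.Agent.S1059.result (F := F) (q := q) rfl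
  obtain ⟨c, hc, hcodd⟩ : ∃ c, Nat.card ↥(chevG2.group F) = 4 * (2 ^ k) ^ 2 * c ∧ Odd c := by
    refine ⟨q ^ 6 * (m' * m' * (q ^ 4 + q ^ 2 + 1)), ?_, ?_⟩
    · rw [hcard]
      have h6 : q ^ 6 - 1 = (q ^ 2 - 1) * (q ^ 4 + q ^ 2 + 1) := by
        have h1 : 1 ≤ q ^ 2 := Nat.one_le_pow _ _ (by omega)
        have h2 : 1 ≤ q ^ 6 := Nat.one_le_pow _ _ (by omega)
        zify [h1, h2]
        ring
      rw [h6, hqm]
      ring
    · have ho : Odd q := ⟨r, hr⟩
      exact (ho.pow).mul ((hm'.mul hm').mul (((ho.pow).add_odd ho.pow).add_odd odd_one))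
  have hR : Nat.card φ.range = 4 * (2 ^ k) ^ 2 := by
    rw [← Nat.card_congr (MonoidHom.ofInjective hφ).toEquiv, Mdl.card_eq]
  have hp : IsPGroup 2 φ.range := IsPGroup.of_card (n := 2 * k + 2) (by rw [hR]; ring)
  have hidx : ¬ 2 ∣ φ.range.index := by
    have h := φ.range.card_mul_index
    rw [hR, hc] at h
    have he : φ.range.index = c := Nat.eq_of_mul_eq_mul_left (by positivity) h
    rw [he, ← even_iff_two_dvd, Nat.not_even_iff_odd]
    exact hcodd
  refine ⟨k, hk, ⟨(MonoidHom.ofInjective hφ).trans ((hp.toSylow hidx).equiv P)⟩⟩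

end CfsgLib.GTwoFusion
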